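import Cfsg.Agent.PSL2Rec.FromTI
import Cfsg.Agent.Local.Fitting
import Cfsg.Agent.Local.FrobBasic

/-! Finite groups whose element orders are at most five: first facts. -/

set_option autoImplicit false

namespace Cfsg.Agent.Sp5

open Subgroup PSL2Rec

universe u

/-- All element orders are at most five. -/
def Le5 (G : Type*) [Group G] : Prop := ∀ x : G, orderOf x ≤ 5

variable {G : Type u} [Group G]

/-- An element of order three or five. -/
def IsOd (x : G) : Prop := orderOf x = 3 ∨ orderOf x = 5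

theorem IsOd.coprime {x : G} (h : IsOd x) : (orderOf x).Coprime 4 := by
  rcases h with h | h <;> rw [h] <;> decide

theorem IsOd.ne_one {x : G} (h : IsOd x) : x ≠ 1 := by
  rintro rfl
  rcases h with h | h <;> simp at h

theorem IsOd.not_pow_four {x : G} (h : IsOd x) : x ^ 4 ≠ 1 := fun e => by
  have := orderOf_dvd_of_pow_eq_one e
  rcases h with h | h <;> rw [h] at this <;> omega

theorem IsOd.sq {x : G} (h : IsOd x) : IsOd (x * x) := by
  rw [← pow_two]
  have : orderOf (x ^ 2) = orderOf x :=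
    Nat.Coprime.orderOf_pow (h.coprime.coprime_dvd_right (by norm_num))
  unfold IsOd
  rwa [this]

theorem IsOd.inv {x : G} (h : IsOd x) : IsOd x⁻¹ := by
  unfold IsOd
  rwa [orderOf_inv]

theorem IsOd.conj {x : G} (h : IsOd x) (g : G) : IsOd (g * x * g⁻¹) := by
  unfold IsOd
  rwa [Char.orderOf_conj']

theorem IsOd.prime {x : G} (h : IsOd x) : (orderOf x).Prime := by
  rcases h with h | h <;> rw [h] <;> norm_num

theorem Le5.subgroup (h : Le5 G) (H : Subgroup G) : Le5 H :=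
  fun x => (orderOf_coe x).symm ▸ h x

variable [Finite G]

theorem Le5.of_surjective (h : Le5 G) {H : Type*} [Group H] {f : G →* H}
    (hf : Function.Surjective f) : Le5 H := fun y => by
  obtain ⟨x, rfl⟩ := hf y
  exact (Nat.le_of_dvd (orderOf_pos x) (orderOf_map_dvd f x)).trans (h x)

theorem Le5.quotient (h : Le5 G) (N : Subgroup G) [N.Normal] : Le5 (G ⧸ N) :=
  h.of_surjective (QuotientGroup.mk'_surjective N)

theorem Le5.cases (h : Le5 G) (x : G) : x ^ 4 = 1 ∨ IsOd x := by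
  have h1 := h x
  have h2 := orderOf_pos x
  unfold IsOd
  rw [← orderOf_dvd_iff_pow_eq_one]
  interval_cases orderOf x <;> simp

theorem Le5.noMul (h : Le5 G) {p : ℕ} (hp : p = 3 ∨ p = 5) : NoMul p G := fun r hr x e => by
  have := h x
  have := hr.two_le
  rcases hp with rfl | rfl <;> omega

theorem Le5.isOd_of_map (h : Le5 G) {H : Type*} [Group H] (f : G →* H) {x : G}
    (hx : IsOd (f x)) : orderOf x = orderOf (f x) := by
  have h1 := h x
  have h2 := orderOf_pos x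
  have h3 := orderOf_map_dvd f x
  rcases hx with hx | hx <;> rw [hx] at h3 ⊢ <;> omega

theorem Le5.pow_four (h : Le5 G) {P : Subgroup G} (hP : IsPGroup 2 P) {x : G} (hx : x ∈ P) :
    x ^ 4 = 1 := by
  refine (h.cases x).resolve_right fun ho => ?_
  obtain ⟨k, hk⟩ := hP ⟨x, hx⟩
  have h1 : orderOf x ∣ 2 ^ k := orderOf_dvd_of_pow_eq_one (congrArg Subtype.val hk)
  have h2 := (Nat.prime_dvd_prime_iff_eq ho.prime Nat.prime_two).1 (ho.prime.dvd_of_dvd_pow h1)
  rcases ho with ho | ho <;> omega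

omit [Finite G] in
theorem isPGroup_of_pow_four {P : Subgroup G} (hP : ∀ x ∈ P, x ^ 4 = 1) : IsPGroup 2 P :=
  fun x => ⟨2, Subtype.ext (hP x x.2)⟩

theorem Le5.eq_one_of_commute (h : Le5 G) {σ x : G} (hσ : IsOd σ) (hx : x ^ 4 = 1)
    (hc : σ * x = x * σ) : x = 1 := by
  have h1 := orderOf_dvd_of_pow_eq_one hx
  have h2 := Commute.orderOf_mul_eq_mul_orderOf_of_coprime hc (hσ.coprime.coprime_dvd_right h1)
  have h3 := h (σ * x)
  have h4 := orderOf_pos x
  rw [← orderOf_eq_one_iff]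
  rcases hσ with hσ | hσ <;> rw [hσ] at h2 <;> omega

theorem Le5.pow_four_of_commute (h : Le5 G) {t x : G} (ht1 : t ≠ 1) (ht : t ^ 4 = 1)
    (hc : x * t = t * x) : x ^ 4 = 1 :=
  (h.cases x).resolve_right fun ho => ht1 (h.eq_one_of_commute ho ht hc)

theorem Le5.isPGroup_centralizer (h : Le5 G) {t : G} (ht1 : t ≠ 1) (ht : t ^ 4 = 1) :
    IsPGroup 2 (centralizer ({t} : Set G)) :=
  isPGroup_of_pow_four fun _ hx =>
    h.pow_four_of_commute ht1 ht (mem_centralizer_singleton_iff.1 hx)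

theorem Le5.centralizer_eq (h : Le5 G) (T : Sylow 2 G) {z : G} (hz1 : z ≠ 1) (hz : z ∈ T)
    (hc : ∀ x ∈ T, x * z = z * x) : centralizer ({z} : Set G) = T :=
  T.is_maximal' (h.isPGroup_centralizer hz1 (h.pow_four T.isPGroup' hz))
    fun x hx => mem_centralizer_singleton_iff.2 (hc x hx)

omit [Finite G] in
theorem pow_four_of_mul_self {s : G} (hs : s * s = 1) : s ^ 4 = 1 := by
  rw [show s ^ 4 = (s * s) * (s * s) by simp [pow_succ, mul_assoc], hs, one_mul]

omit [Finite G] in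
theorem inv_eq_of_mul_self {s : G} (hs : s * s = 1) : s⁻¹ = s := inv_eq_of_mul_eq_one_right hs

omit [Finite G] in
theorem comm_of_mul_self {D : Subgroup G} (hD : ∀ x ∈ D, x * x = 1) {x y : G} (hx : x ∈ D)
    (hy : y ∈ D) : x * y = y * x := by
  rw [← inv_eq_of_mul_self (hD _ (mul_mem hx hy)), mul_inv_rev, inv_eq_of_mul_self (hD _ hx),
    inv_eq_of_mul_self (hD _ hy)]

omit [Finite G] in
/-- Two involutions with product of odd order are conjugate by an involution. -/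
theorem exists_conj_of_isOd {s t : G} (hs : s * s = 1) (ht : t * t = 1) (h : IsOd (s * t)) :
    ∃ v : G, v * v = 1 ∧ v * s * v⁻¹ = t := by
  have h1 : ∀ n : ℕ, (s * t) ^ n * s = s * ((s * t) ^ n)⁻¹ := fun n => by
    have : s * (s * t)⁻¹ * s⁻¹ = s * t := by
      rw [mul_inv_rev, inv_eq_of_mul_self hs, inv_eq_of_mul_self ht, mul_assoc, mul_assoc, hs,
        mul_one]
    rw [← inv_pow]
    conv_lhs => rw [← this, conj_pow, inv_mul_cancel_right]
  have h2 : ∀ n : ℕ, (s * t) ^ (2 * n + 1) = 1 → ∃ v : G, v * v = 1 ∧ v * s * v⁻¹ = t := by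
    intro n hn
    have h3 : (s * t) ^ n * s * ((s * t) ^ n * s) = 1 := by
      nth_rw 2 [h1]
      rw [mul_assoc, ← mul_assoc s s, hs, one_mul, mul_inv_cancel]
    refine ⟨(s * t) ^ n * s, h3, ?_⟩
    rw [inv_eq_of_mul_self h3, mul_assoc _ s s, hs, mul_one, ← mul_assoc, ← pow_add,
      ← mul_right_inj (s * t), ← mul_assoc, ← pow_succ', ← two_mul, hn, one_mul, mul_assoc, ht,
      mul_one]
  rcases h with h | h
  · exact h2 1 (by rw [← orderOf_dvd_iff_pow_eq_one, h])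
  · exact h2 2 (by rw [← orderOf_dvd_iff_pow_eq_one, h])

/-- Two involutions with product of even order lie in a common Sylow subgroup. -/
theorem Le5.exists_sylow_of_pow_four (h : Le5 G) {s t : G} (hs1 : s ≠ 1) (hs : s * s = 1)
    (ht : t * t = 1) (h4 : (s * t) ^ 4 = 1) : ∃ T : Sylow 2 G, s ∈ T ∧ t ∈ T := by
  have key : ∀ z : G, z ≠ 1 → z ^ 4 = 1 → s * z = z * s → t * z = z * t →
      ∃ T : Sylow 2 G, s ∈ T ∧ t ∈ T := fun z h1 h2 h3 h4 => by
    obtain ⟨T, hT⟩ := (h.isPGroup_centralizer h1 h2).exists_le_sylow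
    exact ⟨T, hT (mem_centralizer_singleton_iff.2 h3), hT (mem_centralizer_singleton_iff.2 h4)⟩
  have hi : (s * t)⁻¹ = t * s := by
    rw [mul_inv_rev, inv_eq_of_mul_self hs, inv_eq_of_mul_self ht]
  by_cases h2 : s * t * (s * t) = 1
  · exact key s hs1 (pow_four_of_mul_self hs) rfl (by rw [← hi, inv_eq_of_mul_self h2])
  · have h3 : s * t * (s * t) * (s * t * (s * t)) = 1 := by
      rw [← h4]; simp [pow_succ, mul_assoc]
    have h5 : s * t * (s * t) = t * s * (t * s) := by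
      rw [← inv_eq_of_mul_self h3, mul_inv_rev, hi]
    refine key _ h2 (pow_four_of_mul_self h3) ?_ ?_
    · conv_lhs => rw [h5]
      simp only [mul_assoc]
    · conv_rhs => rw [h5]
      simp only [mul_assoc]

/-- Lifting a dihedral configuration modulo a `2`-subgroup. -/
theorem Le5.exists_lift (h : Le5 G) {D : Subgroup G} (hD : IsPGroup 2 D) {σ u : G} (hσ : IsOd σ)
    (hσD : ∀ d ∈ D, σ * d * σ⁻¹ ∈ D) (huD : ∀ d ∈ D, u * d * u⁻¹ ∈ D) (hu : u * u ∈ D)
    (hi : u * σ * u⁻¹ * σ ∈ D) : ∃ e ∈ D, e * u * (e * u) = 1 ∧ e * u * σ * (e * u)⁻¹ = σ⁻¹ := by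
  have hσD' : ∀ d ∈ D, σ⁻¹ * d * σ⁻¹⁻¹ ∈ D := fun d hd => by
    simpa using Local.inv_conj_mem_of_mem_normalizer (Local.mem_normalizer_of_conj_mem hσD) hd
  obtain ⟨k, hk, e⟩ := Local.exists_commutator_eq_of_fpf hσD'
    (fun k hk hc => h.eq_one_of_commute hσ.inv (h.pow_four hD hk) hc) hi
  have h1 : k⁻¹ * u * σ * (k⁻¹ * u)⁻¹ = σ⁻¹ := by
    have : u * σ * u⁻¹ = k * σ⁻¹ * k⁻¹ := by
      rw [← mul_left_inj σ, ← e]; group
    calc _ = k⁻¹ * (u * σ * u⁻¹) * k := by group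
      _ = _ := by rw [this]; group
  refine ⟨k⁻¹, inv_mem hk, h.eq_one_of_commute hσ (h.pow_four hD ?_) ?_, h1⟩
  · have : k⁻¹ * u * (k⁻¹ * u) = k⁻¹ * (u * k⁻¹ * u⁻¹) * (u * u) := by group
    rw [this]
    exact mul_mem (mul_mem (inv_mem hk) (huD _ (inv_mem hk))) hu
  · generalize k⁻¹ * u = v at h1
    have h2 : v * σ⁻¹ * v⁻¹ = σ := by
      calc _ = (v * σ * v⁻¹)⁻¹ := by group
        _ = σ := by rw [h1, inv_inv]
    calc σ * (v * v) = v * (v * σ * v⁻¹) * v⁻¹ * (v * v) := by rw [h1, h2]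
      _ = _ := by group

/-- An element of order three normalising a `2`-subgroup. -/
theorem Le5.comm_conj (h : Le5 G) {U : Subgroup G} (hU : IsPGroup 2 U) {ρ : G}
    (hρ : orderOf ρ = 3) (hn : ∀ d ∈ U, ρ * d * ρ⁻¹ ∈ U) {x : G} (hx : x ∈ U) :
    x * (ρ * x * ρ⁻¹) = ρ * x * ρ⁻¹ * x := by
  have key : ∀ r : G, orderOf r = 3 → (∀ d ∈ U, r * d * r⁻¹ ∈ U) →
      x * (r * x * r⁻¹) * (r⁻¹ * x * r) = 1 := by
    intro r hr hn
    obtain ⟨k, -, e⟩ := Local.exists_commutator_eq_of_fpf hn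
      (fun k hk hc => h.eq_one_of_commute (Or.inl hr) (h.pow_four hU hk) hc) hx
    have h1 : (x * r) ^ 3 = 1 := by
      rw [← e, show k * (r * k⁻¹ * r⁻¹) * r = k * r * k⁻¹ by group, conj_pow, ← hr,
        pow_orderOf_eq_one, mul_one, mul_inv_cancel]
    have h3 : r ^ 3 = 1 := by rw [← hr, pow_orderOf_eq_one]
    calc _ = x * r * x * (r ^ 3)⁻¹ * r * x * r := by group
      _ = (x * r) ^ 3 := by rw [h3]; simp [pow_succ, mul_assoc]
      _ = 1 := h1
  have h1 := key ρ hρ hn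
  have h2 := key ρ⁻¹ (by rwa [orderOf_inv]) fun d hd => by
    simpa using Local.inv_conj_mem_of_mem_normalizer (Local.mem_normalizer_of_conj_mem hn) hd
  rw [inv_inv, mul_assoc, mul_eq_one_comm, mul_assoc, mul_eq_one_comm] at h2
  exact mul_right_cancel (h1.trans h2.symm)

end Cfsg.Agent.Sp5
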