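import Cfsg.Agent.Sp5.Fus
import Cfsg.Agent.Char.Rec360

/-! Counting elements: the groups with element orders at most five and trivial `O₂`. -/

set_option autoImplicit false

namespace Cfsg.Agent.Sp5

open Subgroup PSL2Rec MulAction
open scoped Pointwise

universe u

theorem card_eq_mul_of_fibers {X Y : Type*} [Finite X] [Finite Y] (f : X → Y) {s : ℕ}
    (h : ∀ y, Nat.card {x // f x = y} = s) : Nat.card X = Nat.card Y * s := by
  have := Fintype.ofFinite Y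
  rw [← Nat.card_congr (Equiv.sigmaFiberEquiv f), Nat.card_sigma, Finset.sum_congr rfl
    fun y _ => h y, Finset.sum_const, Finset.card_univ, Nat.card_eq_fintype_card, smul_eq_mul]

theorem pow_three_cases {a : ℕ} (ha : a ≠ 0) : 3 ^ a = 3 ∨ 3 ^ a = 9 ∨ 27 ∣ 3 ^ a := by
  rcases a with _ | _ | _ | k
  · exact absurd rfl ha
  · simp
  · simp
  · exact Or.inr (Or.inr ⟨3 ^ k, by ring⟩)

theorem pow_five_cases {a : ℕ} (ha : a ≠ 0) : 5 ^ a = 5 ∨ 25 ∣ 5 ^ a := by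
  rcases a with _ | _ | k
  · exact absurd rfl ha
  · simp
  · exact Or.inr ⟨5 ^ k, by ring⟩

theorem num_A {p q a b n₃ n₅ h₃ h₅ : ℕ} (ha : a ≠ 0) (hb : b ≠ 0) (hp : p = 3 ^ a) (hq : q = 5 ^ b)
    (h1 : n₃ * h₃ = 8 * q) (h2 : n₅ * h₅ = 8 * p) (h3 : 2 ∣ h₃)
    (h : 8 * (p * q) = 1 + p * q + n₃ * (p - 1) + p * q * 2 + n₅ * (q - 1)) :
    p = 9 ∧ q = 5 ∧ n₃ = 10 := by
  have p3 : 3 ≤ p := hp ▸ Nat.le_self_pow ha 3
  have q5 : 5 ≤ q := hq ▸ Nat.le_self_pow hb 5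
  have c1 : q % 3 ≠ 0 := fun e => by
    have := Nat.prime_three.dvd_of_dvd_pow (hq ▸ Nat.dvd_of_mod_eq_zero e); omega
  have c2 : p % 5 ≠ 0 := fun e => by
    have := Nat.prime_five.dvd_of_dvd_pow (hp ▸ Nat.dvd_of_mod_eq_zero e); omega
  have c3 : p % 7 ≠ 0 := fun e => by
    have := (by norm_num : Nat.Prime 7).dvd_of_dvd_pow (hp ▸ Nat.dvd_of_mod_eq_zero e); omega
  have hp' := pow_three_cases ha
  have hq' := pow_five_cases hb
  rw [← hp] at hp'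
  rw [← hq] at hq'
  clear hp hq
  obtain ⟨p, rfl⟩ : ∃ k, p = k + 1 := ⟨p - 1, by omega⟩
  obtain ⟨q, rfl⟩ : ∃ k, q = k + 1 := ⟨q - 1, by omega⟩
  simp only [Nat.add_sub_cancel] at h
  have h3' : 2 ≤ h₃ := Nat.le_of_dvd (Nat.pos_of_ne_zero (by rintro rfl; omega)) h3
  have h5' : 2 ≤ h₅ := by
    by_contra hlt
    interval_cases h₅
    · omega
    · nlinarith
  have n3 : n₃ ≤ 4 * (q + 1) := by nlinarith
  have n5 : n₅ ≤ 4 * (p + 1) := by nlinarith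
  have h3'' : h₃ ≤ 8 := by
    by_contra hlt
    have : n₃ * 9 ≤ 8 * (q + 1) := by nlinarith
    nlinarith
  have h5'' : h₅ ≤ 8 := by
    by_contra hlt
    have : n₅ * 9 ≤ 8 * (p + 1) := by nlinarith
    nlinarith
  have key : h₃ * h₅ * (5 * (p * q) + 5 * p + 5 * q + 4) =
      8 * h₅ * (p * q + p) + 8 * h₃ * (p * q + q) := by
    zify at h h1 h2 ⊢
    linear_combination h₃ * h₅ * h + h₅ * p * h1 + h₃ * q * h2
  have e3 : h₃ = 2 ∨ h₃ = 4 ∨ h₃ = 8 := by interval_cases h₃ <;> omega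
  have e5 : h₅ = 2 ∨ h₅ = 3 ∨ h₅ = 4 ∨ h₅ = 6 ∨ h₅ = 8 := by interval_cases h₅ <;> omega
  clear h n3 n5 h3 h3' h3'' h5' h5'' c1 c2 c3 h2 ha hb
  rcases hp' with hp | hp | hp
  · obtain rfl : p = 2 := by omega
    rcases e3 with rfl | rfl | rfl <;> rcases e5 with rfl | rfl | rfl | rfl | rfl <;> omega
  · obtain rfl : p = 8 := by omega
    rcases e3 with rfl | rfl | rfl <;> rcases e5 with rfl | rfl | rfl | rfl | rfl <;> omega
  exfalso
  clear h1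
  rcases hq' with hq | hq
  · obtain rfl : q = 4 := by omega
    rcases e3 with rfl | rfl | rfl <;> rcases e5 with rfl | rfl | rfl | rfl | rfl <;> omega
  · have e1 : 26 ≤ p := by omega
    have e2 : 24 ≤ q := by omega
    have e4 : 24 * p + 26 * q ≤ p * q + 624 := by nlinarith
    clear hp hq
    generalize p * q = m at *
    rcases e3 with rfl | rfl | rfl <;> rcases e5 with rfl | rfl | rfl | rfl | rfl <;> omega

theorem num_B {p q a b n₃ n₅ h₃ h₅ : ℕ} (ha : a ≠ 0) (hb : b ≠ 0) (hp : p = 3 ^ a) (hq : q = 5 ^ b)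
    (h1 : n₃ * h₃ = 64 * q) (h2 : n₅ * h₅ = 64 * p) (h3 : 2 ∣ h₃) (h5 : 2 ∣ h₅)
    (h : 64 * (p * q) = 1 + p * q + n₃ * (p - 1) + p * q * 12 + n₅ * (q - 1)) : False := by
  have p3 : 3 ≤ p := hp ▸ Nat.le_self_pow ha 3
  have q5 : 5 ≤ q := hq ▸ Nat.le_self_pow hb 5
  have hp' := pow_three_cases ha
  have hq' := pow_five_cases hb
  rw [← hp] at hp'
  rw [← hq] at hq'
  clear hp hq
  obtain ⟨p, rfl⟩ : ∃ k, p = k + 1 := ⟨p - 1, by omega⟩
  obtain ⟨q, rfl⟩ : ∃ k, q = k + 1 := ⟨q - 1, by omega⟩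
  simp only [Nat.add_sub_cancel] at h
  have h3' : 2 ≤ h₃ := Nat.le_of_dvd (Nat.pos_of_ne_zero (by rintro rfl; omega)) h3
  have h5' : 2 ≤ h₅ := Nat.le_of_dvd (Nat.pos_of_ne_zero (by rintro rfl; omega)) h5
  have n3 : n₃ ≤ 32 * (q + 1) := by nlinarith
  have n5 : n₅ ≤ 32 * (p + 1) := by nlinarith
  obtain rfl : h₃ = 2 := by
    by_contra hlt
    have : n₃ ≤ 16 * (q + 1) := by nlinarith [show 4 ≤ h₃ by omega]
    nlinarith
  obtain rfl : h₅ = 2 := by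
    by_contra hlt
    have : n₅ ≤ 16 * (p + 1) := by nlinarith [show 4 ≤ h₅ by omega]
    nlinarith
  obtain rfl : n₃ = 32 * (q + 1) := by omega
  obtain rfl : n₅ = 32 * (p + 1) := by omega
  rcases hp' with hp | hp
  · obtain rfl : p = 2 := by omega
    omega
  · have : 8 ≤ p := by omega
    nlinarith

end Cfsg.Agent.Sp5
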