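import Cfsg.Agent.Sp5.Basic

/-! A `2`-subgroup normalised by a dihedral group of twice odd order is elementary abelian. -/

set_option autoImplicit false

namespace Cfsg.Agent.Sp5

open Subgroup PSL2Rec
open scoped commutatorElement

universe u

variable {G : Type u} [Group G]

/-- The involution `u` inverts the element `σ` of order three or five. -/
structure Dih (σ u : G) : Prop where
  od : IsOd σ
  sq : u * u = 1
  inv : u * σ * u⁻¹ = σ⁻¹

theorem Dih.inv' {σ u : G} (h : Dih σ u) : u * σ⁻¹ * u⁻¹ = σ := by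
  calc _ = (u * σ * u⁻¹)⁻¹ := by group
    _ = σ := by rw [h.inv, inv_inv]

theorem Dih.two {σ u : G} (h : Dih σ u) : Dih (σ * σ) u :=
  ⟨h.od.sq, h.sq, by
    calc _ = (u * σ * u⁻¹) * (u * σ * u⁻¹) := by group
      _ = _ := by rw [h.inv, mul_inv_rev]⟩

theorem Dih.mul_self {σ u : G} (h : Dih σ u) : σ * u * σ⁻¹ * u = σ * σ := by
  nth_rw 4 [← h.inv']
  rw [inv_eq_of_mul_self h.sq]; group

theorem Dih.ne_one {σ u : G} (h : Dih σ u) : u ≠ 1 := by
  rintro rfl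
  have := h.mul_self
  rw [mul_one, mul_one, mul_inv_cancel] at this
  exact h.od.sq.ne_one this.symm

/-- The commutator of an element of an elementary abelian group with an involution. -/
def br (d u : G) : G := d * (u * d * u⁻¹)

theorem br_mem {D : Subgroup G} {u d : G} (huD : ∀ d ∈ D, u * d * u⁻¹ ∈ D) (hd : d ∈ D) :
    br d u ∈ D := mul_mem hd (huD d hd)

theorem br_comm {D : Subgroup G} (hD : ∀ x ∈ D, x * x = 1) {u d : G}
    (huD : ∀ d ∈ D, u * d * u⁻¹ ∈ D) (hu : u * u ∈ D) (hd : d ∈ D) : br d u * u = u * br d u := by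
  have h1 := comm_of_mul_self hD hd hu
  calc br d u * u = (u * d * u⁻¹) * d * u := by rw [br, comm_of_mul_self hD hd (huD d hd)]
    _ = u * d * u⁻¹ * (d * (u * u)) * u⁻¹ := by group
    _ = _ := by rw [h1, br]; group

theorem br_mul {D : Subgroup G} (hD : ∀ x ∈ D, x * x = 1) {u d e : G}
    (huD : ∀ d ∈ D, u * d * u⁻¹ ∈ D) (hd : d ∈ D) (he : e ∈ D) :
    br (d * e) u = br d u * br e u := by
  calc _ = d * (e * (u * d * u⁻¹)) * (u * e * u⁻¹) := by rw [br]; group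
    _ = _ := by rw [comm_of_mul_self hD he (huD d hd), br, br]; group

theorem br_eq_one_iff {u d : G} (hd : d * d = 1) : br d u = 1 ↔ d * u = u * d := by
  rw [br, ← eq_inv_iff_mul_eq_one, mul_inv_rev, mul_inv_rev, inv_inv, inv_eq_of_mul_self hd,
    ← mul_assoc, eq_mul_inv_iff_mul_eq]

theorem mul_sq_eq_br {u d : G} (hu : u * u = 1) : d * u * (d * u) = br d u := by
  rw [br, inv_eq_of_mul_self hu]; group

variable [Finite G]

theorem Le5.eq_one_of_dih (h : Le5 G) {σ u b : G} (hd : Dih σ u) (hb : b ^ 4 = 1)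
    (h1 : b * u = u * b) (h2 : σ⁻¹ * b * σ * u = u * (σ⁻¹ * b * σ)) : b = 1 := by
  refine h.eq_one_of_commute hd.od.sq hb ?_
  rw [← hd.mul_self]
  calc _ = σ * u * σ⁻¹ * (b * u) := by rw [h1]; group
    _ = σ * (u * (σ⁻¹ * b * σ)) * σ⁻¹ * u := by group
    _ = _ := by rw [← h2]; group

section Mod

variable (h : Le5 G) {D : Subgroup G} (hD : ∀ x ∈ D, x * x = 1) {σ u : G} (hd : Dih σ u)
  (hσD : ∀ d ∈ D, σ * d * σ⁻¹ ∈ D) (huD : ∀ d ∈ D, u * d * u⁻¹ ∈ D)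

include h hD hd hσD huD

theorem Le5.exists_decomp {x : G} (hx : x ∈ D) :
    ∃ d ∈ D, ∃ d' ∈ D, x = br d u * (σ * br d' u * σ⁻¹) := by
  obtain ⟨e, he, rfl⟩ := Local.exists_commutator_eq_of_fpf (x := σ * σ)
    (fun k hk => by simpa [mul_assoc] using hσD _ (hσD k hk))
    (fun k hk hc => h.eq_one_of_commute hd.od.sq (pow_four_of_mul_self (hD k hk)) hc) hx
  refine ⟨e, he, σ⁻¹ * (u * e * u⁻¹) * σ, Local.inv_conj_mem_of_mem_normalizer
    (Local.mem_normalizer_of_conj_mem hσD) (huD e he), ?_⟩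
  rw [inv_eq_of_mul_self (hD e he), ← hd.mul_self]
  calc _ = e * (u * (e * e) * u⁻¹) * (σ * u * σ⁻¹ * u * e * (σ * u * σ⁻¹ * u)⁻¹) := by
        rw [hD e he]; group
    _ = _ := by rw [br, br]; group

theorem Le5.exists_br {x : G} (hx : x ∈ D) (hc : x * u = u * x) : ∃ d ∈ D, x = br d u := by
  obtain ⟨d, hd1, d', hd', e⟩ := h.exists_decomp hD hd hσD huD hx
  have hu : u * u ∈ D := hd.sq ▸ one_mem D
  have h1 := br_comm hD huD hu hd1
  have h2 := br_comm hD huD hu hd'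
  refine ⟨d, hd1, ?_⟩
  rw [e, h.eq_one_of_dih hd (pow_four_of_mul_self (hD _ (hσD _ (br_mem huD hd')))) ?_
    (by simpa [mul_assoc] using h2), mul_one]
  rw [← mul_right_inj (br d u), ← mul_assoc, ← e, ← mul_assoc, h1, mul_assoc, ← e, hc]

theorem Le5.card_sq :
    Nat.card ↥(D ⊓ centralizer {u}) * Nat.card ↥(D ⊓ centralizer {u}) = Nat.card D := by
  rw [← Nat.card_prod]
  refine Nat.card_congr (Equiv.ofBijective (fun x => ⟨x.1 * (σ * x.2 * σ⁻¹),
    mul_mem x.1.2.1 (hσD _ x.2.2.1)⟩) ⟨?_, ?_⟩)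
  · rintro ⟨a, a'⟩ ⟨b, b'⟩ e
    have e1 : (a : G) * (σ * a' * σ⁻¹) = b * (σ * b' * σ⁻¹) := congrArg Subtype.val e
    have e2 : σ⁻¹ * ((b : G)⁻¹ * a) * σ = b' * (a' : G)⁻¹ := by
      calc _ = σ⁻¹ * (b : G)⁻¹ * (a * (σ * a' * σ⁻¹)) * σ * (a' : G)⁻¹ := by group
        _ = _ := by rw [e1]; group
    have e3 : (b : G)⁻¹ * a = 1 :=
      h.eq_one_of_dih hd (pow_four_of_mul_self (hD _ (b⁻¹ * a).2.1))
        (mem_centralizer_singleton_iff.1 (b⁻¹ * a).2.2)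
        (e2 ▸ mem_centralizer_singleton_iff.1 (b' * a'⁻¹).2.2)
    rw [e3, mul_one, inv_mul_cancel, eq_comm, mul_inv_eq_one] at e2
    exact Prod.ext (Subtype.ext (inv_mul_eq_one.1 e3).symm) (Subtype.ext e2.symm)
  · rintro ⟨x, hx⟩
    obtain ⟨d, hd1, d', hd', e⟩ := h.exists_decomp hD hd hσD huD hx
    have hu : u * u ∈ D := hd.sq ▸ one_mem D
    exact ⟨(⟨_, br_mem huD hd1, mem_centralizer_singleton_iff.2 (br_comm hD huD hu hd1)⟩,
      ⟨_, br_mem huD hd', mem_centralizer_singleton_iff.2 (br_comm hD huD hu hd')⟩),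
      Subtype.ext e.symm⟩

end Mod

omit [Finite G] in
theorem card_br_fiber {D : Subgroup G} (hD : ∀ x ∈ D, x * x = 1) {u d₀ : G}
    (huD : ∀ d ∈ D, u * d * u⁻¹ ∈ D) (hd₀ : d₀ ∈ D) :
    Nat.card {d : D // br (d : G) u = br d₀ u} = Nat.card ↥(D ⊓ centralizer {u}) := by
  symm
  refine Nat.card_congr (Equiv.ofBijective (fun a => ⟨⟨d₀ * a, mul_mem hd₀ a.2.1⟩, by
    rw [br_mul hD huD hd₀ a.2.1, (br_eq_one_iff (hD _ a.2.1)).2
      (mem_centralizer_singleton_iff.1 a.2.2), mul_one]⟩) ⟨?_, ?_⟩)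
  · intro a b e
    exact Subtype.ext (mul_left_cancel (congrArg (fun x => (x.1 : G)) e))
  · rintro ⟨⟨d, hd⟩, e⟩
    refine ⟨⟨d₀ * d, mul_mem hd₀ hd, mem_centralizer_singleton_iff.2
      ((br_eq_one_iff (hD _ (mul_mem hd₀ hd))).1 ?_)⟩, ?_⟩
    · rw [br_mul hD huD hd₀ hd, e, hD _ (br_mem huD hd₀)]
    · refine Subtype.ext (Subtype.ext ?_)
      change d₀ * (d₀ * d) = d
      rw [← mul_assoc, hD _ hd₀, one_mul]

theorem elem_aux (n : ℕ) : ∀ (G : Type u) [Group G] [Finite G], Nat.card G = n → Le5 G →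
    ∀ (D : Subgroup G) [D.Normal], IsPGroup 2 D → ∀ σ u : G, Dih σ u → ∀ x ∈ D, x * x = 1 := by
  induction n using Nat.strong_induction_on with
  | _ n ih =>
  intro G _ _ hn h D hDn hD σ u hd
  have := Fact.mk Nat.prime_two
  by_cases hD1 : D = ⊥
  · intro x hx
    rw [hD1, mem_bot] at hx
    rw [hx, one_mul]
  let Z : Subgroup G :=
    { carrier := {z | z ∈ D ∧ z * z = 1 ∧ ∀ x ∈ D, x * z = z * x}
      one_mem' := ⟨one_mem D, one_mul 1, by simp⟩
      mul_mem' := by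
        rintro a b ⟨ha, ha2, hac⟩ ⟨hb, hb2, hbc⟩
        refine ⟨mul_mem ha hb, ?_, fun x hx => ?_⟩
        · rw [mul_assoc, ← mul_assoc b, hac b hb, mul_assoc, hb2, mul_one, ha2]
        · rw [← mul_assoc, hac x hx, mul_assoc, hbc x hx, mul_assoc]
      inv_mem' := by
        rintro a ⟨ha, ha2, hac⟩
        rw [inv_eq_of_mul_self ha2]
        exact ⟨ha, ha2, hac⟩ }
  have hZn : Z.Normal := ⟨by
    rintro z ⟨hz, hz2, hzc⟩ g
    refine ⟨hDn.conj_mem _ hz g, by simp [hz2], fun x hx => ?_⟩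
    calc _ = g * (g⁻¹ * x * g⁻¹⁻¹ * z) * g⁻¹ := by group
      _ = _ := by rw [hzc _ (hDn.conj_mem _ hx g⁻¹)]; group⟩
  have hZ1 : Z ≠ ⊥ := by
    have := (nontrivial_iff_ne_bot D).2 hD1
    obtain ⟨z, -, hz, hzc⟩ := LinP.exists_central_of_normal hD ⊤ top_ne_bot
    refine fun e => Local.ne_one_of_orderOf_eq_prime Nat.prime_two hz (Subtype.ext ?_)
    have : (z : G) ∈ Z := ⟨z.2, by
      rw [← pow_two, ← hz]; exact congrArg Subtype.val (pow_orderOf_eq_one z),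
      fun x hx => congrArg Subtype.val (mem_center_iff.1 hzc ⟨x, hx⟩)⟩
    rwa [e] at this
  let φ := QuotientGroup.mk' Z
  have hφ : ∀ x, φ x = 1 ↔ x ∈ Z := fun x => QuotientGroup.eq_one_iff x
  have hd' : ∀ {s v : G}, Dih s v → Dih (φ s) (φ v) := fun {s v} hs => by
    refine ⟨((h.quotient Z).cases _).resolve_left fun e => ?_, by rw [← map_mul, hs.sq, map_one],
      by rw [← map_inv, ← map_mul, ← map_mul, hs.inv, map_inv]⟩
    rw [← map_pow, hφ] at e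
    have e1 := pow_four_of_mul_self e.2.1
    rw [← pow_mul, ← orderOf_dvd_iff_pow_eq_one] at e1
    rcases hs.od with h1 | h1 <;> rw [h1] at e1 <;> omega
  have hDφ : (D.map φ).Normal := hDn.map φ (QuotientGroup.mk'_surjective Z)
  have IH := ih _ (by
    rw [← hn, ← Z.card_mul_index]
    exact lt_mul_of_one_lt_left Nat.card_pos ((one_lt_card_iff_ne_bot Z).2 hZ1)) (G ⧸ Z) rfl
    (h.quotient Z) (D.map φ) (hD.map φ) _ _ (hd' hd)
  have hc : ∀ x ∈ D, ∀ y ∈ D, φ x * φ y = φ y * φ x := fun x hx y hy =>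
    comm_of_mul_self IH (mem_map_of_mem φ hx) (mem_map_of_mem φ hy)
  have hb : ∀ x ∈ D, ∀ y ∈ D, ⁅x, y⁆ ∈ Z := fun x hx y hy => by
    rw [← hφ, map_commutatorElement, commutatorElement_eq_one_iff_mul_comm, hc x hx y hy]
  have hl : ∀ x ∈ D, ∀ x' ∈ D, ∀ y ∈ D, ⁅x * x', y⁆ = ⁅x, y⁆ * ⁅x', y⁆ := by
    intro x hx x' hx' y hy
    calc _ = x * ⁅x', y⁆ * x⁻¹ * ⁅x, y⁆ := by simp only [commutatorElement_def]; group
      _ = _ := by
        rw [(hb x' hx' y hy).2.2 x hx, mul_inv_cancel_right,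
          (hb x' hx' y hy).2.2 _ (hb x hx y hy).1]
  have hr : ∀ x ∈ D, ∀ y ∈ D, ∀ y' ∈ D, ⁅x, y * y'⁆ = ⁅x, y⁆ * ⁅x, y'⁆ := by
    intro x hx y hy y' hy'
    calc _ = ⁅x, y⁆ * (y * ⁅x, y'⁆ * y⁻¹) := by simp only [commutatorElement_def]; group
      _ = _ := by rw [(hb x hx y' hy').2.2 y hy, mul_inv_cancel_right]
  -- elements centralising `u` modulo `Z`
  let S : Subgroup G := D ⊓ (centralizer {φ u}).comap φ
  have hS2 : ∀ x ∈ S, x * x = 1 := by
    rintro x ⟨hx, hxu⟩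
    obtain ⟨_, ⟨d, hd1, rfl⟩, e⟩ := (h.quotient Z).exists_br IH (hd' hd)
      (fun d hd => hDφ.conj_mem d hd _) (fun d hd => hDφ.conj_mem d hd _) (mem_map_of_mem φ hx)
      (mem_centralizer_singleton_iff.1 hxu)
    have h1 : (br d u)⁻¹ * x ∈ Z := by
      rw [← hφ, map_mul, map_inv, e, inv_mul_eq_one]; simp [br]
    have h2 : br d u * br d u = 1 := by
      have : IsPGroup 2 ↥(D ⊔ zpowers u) :=
        hD.to_sup_of_normal_left (isPGroup_of_pow_four (by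
          rintro _ ⟨k, rfl⟩
          rw [← zpow_natCast, ← zpow_mul, mul_comm, zpow_mul, zpow_natCast,
            pow_four_of_mul_self hd.sq, one_zpow]))
      rw [← mul_sq_eq_br hd.sq, ← h.pow_four this (mul_mem_sup hd1 (mem_zpowers u))]
      simp [pow_succ, mul_assoc]
    have h3 := h1.2.2 _ (br_mem (fun d hd => hDn.conj_mem d hd u) hd1)
    calc x * x = br d u * (((br d u)⁻¹ * x) * br d u) * ((br d u)⁻¹ * x) := by group
      _ = br d u * br d u * (((br d u)⁻¹ * x) * ((br d u)⁻¹ * x)) := by rw [← h3]; group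
      _ = 1 := by rw [h2, h1.2.1, one_mul]
  have hSc : ∀ g : G, ∀ x ∈ S, ∀ y ∈ S, ⁅g * x * g⁻¹, g * y * g⁻¹⁆ = 1 := fun g x hx y hy => by
    rw [← conjugate_commutatorElement, commutatorElement_eq_one_iff_mul_comm.2
      (comm_of_mul_self hS2 hx hy), mul_one, mul_inv_cancel]
  have hSs : ∀ {s : G}, Dih s u → ∀ a ∈ S, s⁻¹ * a * s * (s * a * s⁻¹) ∈ S := by
    rintro s hs a ⟨ha, hau⟩
    have h1 := hDn.conj_mem a ha s
    have h2 : s⁻¹ * a * s ∈ D := by simpa using hDn.conj_mem a ha s⁻¹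
    refine ⟨mul_mem h2 h1, mem_centralizer_singleton_iff.2 ?_⟩
    have h3 : φ u * φ a * (φ u)⁻¹ = φ a := by
      rw [← mem_centralizer_singleton_iff.1 hau, mul_inv_cancel_right]
    rw [map_mul, eq_comm, ← mul_inv_eq_iff_eq_mul]
    conv_rhs => rw [hc _ h2 _ h1]
    simp only [map_mul, map_inv]
    calc _ = (φ u * (φ s)⁻¹ * (φ u)⁻¹) * (φ u * φ a * (φ u)⁻¹) * (φ u * φ s * (φ u)⁻¹) *
          ((φ u * φ s * (φ u)⁻¹) * (φ u * φ a * (φ u)⁻¹) * (φ u * (φ s)⁻¹ * (φ u)⁻¹)) := by group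
      _ = _ := by rw [(hd' hs).inv, (hd' hs).inv', h3]
  have hmain : ∀ a ∈ S, ∀ a' ∈ S, ⁅a, σ * σ * a' * (σ * σ)⁻¹⁆ = 1 := by
    intro a ha a' ha'
    set t := σ * σ with ht
    have c : ∀ {x : G}, x ∈ D → t * x * t⁻¹ ∈ D := fun hx => hDn.conj_mem _ hx t
    have e1 := hSc σ _ (hSs hd a ha) _ (hSs hd a' ha')
    rw [show ∀ b : G, σ * (σ⁻¹ * b * σ * (σ * b * σ⁻¹)) * σ⁻¹ = b * (t * b * t⁻¹) from
        fun b => by rw [ht]; group,
      show ∀ b : G, σ * (σ⁻¹ * b * σ * (σ * b * σ⁻¹)) * σ⁻¹ = b * (t * b * t⁻¹) from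
        fun b => by rw [ht]; group,
      hl _ ha.1 _ (c ha.1) _ (mul_mem ha'.1 (c ha'.1)), hr _ ha.1 _ ha'.1 _ (c ha'.1),
      hr _ (c ha.1) _ ha'.1 _ (c ha'.1), hSc t a ha a' ha',
      commutatorElement_eq_one_iff_mul_comm.2 (comm_of_mul_self hS2 ha ha'), one_mul,
      mul_one] at e1
    have e2 := hSc t _ ha _ (hSs hd.two a' ha')
    rw [← ht, show t * (t⁻¹ * a' * t * (t * a' * t⁻¹)) * t⁻¹ = a' * (t * (t * a' * t⁻¹) * t⁻¹) by
      group, hr _ (c ha.1) _ ha'.1 _ (c (c ha'.1)), ← conjugate_commutatorElement,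
      mul_eq_one_comm] at e2
    refine h.eq_one_of_commute hd.od.sq (pow_four_of_mul_self (hb _ ha.1 _ (c ha'.1)).2.1) ?_
    rw [← ht, ← mul_inv_eq_iff_eq_mul]
    exact mul_right_cancel (e2.trans e1.symm)
  intro x hx
  obtain ⟨_, ⟨d, hd1, rfl⟩, _, ⟨d', hd2, rfl⟩, e⟩ := (h.quotient Z).exists_decomp IH (hd' hd.two)
    (fun d hd => hDφ.conj_mem d hd _) (fun d hd => hDφ.conj_mem d hd _) (mem_map_of_mem φ hx)
  have hbS : ∀ d ∈ D, br d u ∈ S := fun d hd1 => ⟨br_mem (fun d hd => hDn.conj_mem d hd u) hd1,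
    mem_centralizer_singleton_iff.2 (by
      have := br_comm IH (fun d hd => hDφ.conj_mem d hd (φ u)) ((hd' hd).sq ▸ one_mem _)
        (mem_map_of_mem φ hd1)
      simpa [br] using this)⟩
  have ha : x * (σ * σ * br d' u * (σ * σ)⁻¹)⁻¹ ∈ S := by
    refine ⟨D.mul_mem hx (D.inv_mem (hDn.conj_mem _ (hbS d' hd2).1 _)), ?_⟩
    have : φ (x * (σ * σ * br d' u * (σ * σ)⁻¹)⁻¹) = φ (br d u) := by
      rw [map_mul, e]; simp only [br, map_mul, map_inv]; group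
    change φ _ ∈ centralizer {φ u}
    rw [this]
    exact (hbS d hd1).2
  have h1 := commutatorElement_eq_one_iff_mul_comm.1 (hmain _ ha _ (hbS d' hd2))
  have h2 := hS2 _ ha
  have h3 : σ * σ * br d' u * (σ * σ)⁻¹ * (σ * σ * br d' u * (σ * σ)⁻¹) = 1 := by
    rw [conj_mul, hS2 _ (hbS d' hd2), mul_one, mul_inv_cancel]
  generalize σ * σ * br d' u * (σ * σ)⁻¹ = b at h1 h2 h3
  calc x * x = x * b⁻¹ * (b * (x * b⁻¹)) * b := by group
    _ = x * b⁻¹ * (x * b⁻¹) * (b * b) := by rw [← h1]; group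
    _ = 1 := by rw [h2, h3, one_mul]

/-- A `2`-subgroup normalised by a dihedral group of twice odd order is elementary abelian. -/
theorem Le5.elem (h : Le5 G) {D : Subgroup G} (hD : IsPGroup 2 D) {σ u : G} (hd : Dih σ u)
    (hσD : ∀ d ∈ D, σ * d * σ⁻¹ ∈ D) (huD : ∀ d ∈ D, u * d * u⁻¹ ∈ D) {x : G} (hx : x ∈ D) :
    x * x = 1 := by
  have := normal_subgroupOf_of_le_normalizer (le_refl (normalizer (D : Set G)))
  exact congrArg Subtype.val (elem_aux _ (normalizer (D : Set G)) rfl (h.subgroup _)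
    (D.subgroupOf _) hD.comap_subtype ⟨σ, Local.mem_normalizer_of_conj_mem hσD⟩
    ⟨u, Local.mem_normalizer_of_conj_mem huD⟩
    ⟨by have := hd.od; unfold IsOd at this ⊢; rwa [← orderOf_coe], Subtype.ext hd.sq,
      Subtype.ext hd.inv⟩ ⟨x, le_normalizer hx⟩ hx)

end Cfsg.Agent.Sp5
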