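import Cfsg.Agent.Sp5.Loc
import Cfsg.Agent.LinP.OrderPR

/-! Fusion of involutions. -/

set_option autoImplicit false

namespace Cfsg.Agent.Sp5

open Subgroup PSL2Rec MulAction
open scoped Pointwise

universe u

variable {G : Type u} [Group G] [Finite G] {T : Sylow 2 G} {D A : Subgroup G} {w : ℕ}

namespace Loc

theorem A_le (hL : Loc T D A w) : A ≤ D := by
  obtain ⟨u, hu, huD⟩ := SetLike.exists_of_lt hL.lt
  exact hL.cen u hu huD ▸ inf_le_left

theorem central (hL : Loc T D A w) {a x : G} (ha : a ∈ A)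
    (hx : x ∈ (T : Subgroup G) ⊓ normalizer (D : Set G)) : x * a = a * x := by
  by_cases hxD : x ∈ D
  · exact comm_of_mul_self hL.sq hxD (hL.A_le ha)
  · rw [← hL.cen x hx hxD] at ha
    exact (mem_centralizer_singleton_iff.1 ha.2).symm

theorem mem_A (hL : Loc T D A w) {d u : G} (hd : d ∈ D)
    (hu : u ∈ (T : Subgroup G) ⊓ normalizer (D : Set G)) (huD : u ∉ D) (hc : d * u = u * d) :
    d ∈ A := hL.cen u hu huD ▸ ⟨hd, mem_centralizer_singleton_iff.2 hc⟩

theorem not_le (hL : Loc T D A w) : ¬ D ≤ A := fun e => by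
  have h1 := hL.card
  have h2 := (one_lt_card_iff_ne_bot D).2 hL.ne
  rw [le_antisymm hL.A_le e] at h1
  nlinarith

theorem exists_A (hL : Loc T D A w) : ∃ a ∈ A, a ≠ 1 := by
  refine (bot_or_exists_ne_one A).resolve_left fun e => hL.ne ?_
  rw [← card_eq_one, ← hL.card, e, card_bot]

theorem centralizer_le (hL : Loc T D A w) (h : Le5 G) {a : G} (ha : a ∈ A) (ha1 : a ≠ 1) :
    centralizer {a} ≤ (T : Subgroup G) := by
  obtain ⟨P, hP⟩ := (h.isPGroup_centralizer ha1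
    (pow_four_of_mul_self (hL.sq a (hL.A_le ha)))).exists_le_sylow
  rwa [hL.uniq _ hL.lt T P inf_le_left fun x hx =>
    hP (mem_centralizer_singleton_iff.2 (hL.central ha hx))]

theorem trans (hL : Loc T D A w) (h : Le5 G) {a : G} (ha : a ∈ A) (ha1 : a ≠ 1) :
    w ≤ Nat.card A ∧ (Nat.card A = w → ∀ d ∈ D, d ≠ 1 → IsConj a d) := by
  letI := Local.conjAction (le_refl (normalizer (D : Set G)))
  have h1 : stabilizer (normalizer (D : Set G)) (⟨a, hL.A_le ha⟩ : D) =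
      (T : Subgroup G).subgroupOf (normalizer (D : Set G)) := by
    ext m
    rw [mem_stabilizer_iff, Subtype.ext_iff, Local.coe_conjAction_smul, mul_inv_eq_iff_eq_mul]
    exact ⟨fun e => hL.centralizer_le h ha ha1 (mem_centralizer_singleton_iff.2 e),
      fun e => hL.central ha ⟨e, m.2⟩⟩
  have h2 := index_stabilizer (normalizer (D : Set G)) (⟨a, hL.A_le ha⟩ : D)
  have h3 : MulAction.orbit (normalizer (D : Set G)) (⟨a, hL.A_le ha⟩ : D) ⊆ {1}ᶜ := by
    rintro _ ⟨m, rfl⟩ e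
    have : (m : G) * a * (m : G)⁻¹ = 1 := congrArg Subtype.val e
    exact ha1 (by simpa using this)
  have h4 := Set.ncard_add_ncard_compl ({1} : Set D)
  have h5 := Set.ncard_le_ncard h3
  have h6 := hL.orbit
  have h7 := hL.card
  rw [h1] at h2
  rw [Set.ncard_singleton] at h4
  unfold relIndex at h6
  refine ⟨Nat.mul_self_le_mul_self_iff.1 (by omega), fun e d hd hd1 => ?_⟩
  rw [e] at h7
  obtain ⟨m, hm⟩ := (Set.eq_of_subset_of_ncard_le h3 (by omega)).ge
    (show (⟨d, hd⟩ : D) ∈ ({1}ᶜ : Set D) from fun e => hd1 (congrArg Subtype.val e))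
  exact isConj_iff.2 ⟨m, congrArg Subtype.val hm⟩

theorem bound (hL : Loc T D A w) {E : Subgroup G}
    (hE : E ≤ (T : Subgroup G) ⊓ normalizer (D : Set G)) (hc : ∀ x ∈ E, ∀ y ∈ E, x * y = y * x)
    {b : G} (hb : b ∈ E) (hbD : b ∉ D) : D ⊓ E ≤ A ∧ Nat.card E ≤ Nat.card ↥(D ⊓ E) * w := by
  refine ⟨fun x hx => hL.mem_A hx.1 (hE hb) hbD (hc _ hx.2 _ hb), ?_⟩
  rw [← Local.card_inf_mul_relIndex D E, ← hL.idx]
  exact Nat.mul_le_mul_left _ (relIndex_le_of_le_right hE index_ne_zero_of_finite)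

omit [Finite G] in
theorem sq_conj (hL : Loc T D A w) (g : G) : ∀ x ∈ MulAut.conj g • D, x * x = 1 := fun x hx => by
  calc _ = g * (g⁻¹ * x * g * (g⁻¹ * x * g)) * g⁻¹ := by group
    _ = 1 := by rw [hL.sq _ (Local.mem_conj_smul_iff.1 hx), mul_one, mul_inv_cancel]

theorem le_normalizer (hL : Loc T D A w) (h : Le5 G) :
    (T : Subgroup G) ≤ normalizer (D : Set G) := by
  have := Fact.mk Nat.prime_two
  by_contra hne
  set U := (T : Subgroup G) ⊓ normalizer (D : Set G) with hU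
  obtain ⟨x, hx, hxU, hx2⟩ : ∃ x ∈ (T : Subgroup G) ⊓ normalizer (U : Set G), x ∉ U ∧ x * x ∈ U := by
    obtain ⟨y, hy, hyU⟩ := SetLike.exists_of_lt (exists_mem_normalizer_notMem T.isPGroup'
      (inf_lt_left.2 hne))
    by_cases h2 : y * y ∈ U
    · exact ⟨y, hy, hyU, h2⟩
    · refine ⟨_, mul_mem hy hy, h2, ?_⟩
      rw [show y * y * (y * y) = y ^ 4 by simp [pow_succ, mul_assoc], h.pow_four T.isPGroup' hy.1]
      exact one_mem _
  obtain ⟨a, ha, hb⟩ : ∃ a ∈ D, x * a * x⁻¹ ∉ D := by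
    by_contra! e
    exact hxU ⟨hx.1, Local.mem_normalizer_of_conj_mem e⟩
  have hE : MulAut.conj x • D ≤ U := by
    rintro _ ⟨d, hd, rfl⟩
    exact Local.conj_mem_of_mem_normalizer hx.2 (hL.lt.le hd)
  have hbE := Local.conj_mem_conj_smul x ha
  obtain ⟨h1, h2⟩ := hL.bound hE (fun _ h1 _ h2 => comm_of_mul_self (hL.sq_conj x) h1 h2) hbE hb
  obtain ⟨z, hz, hz1⟩ := hL.exists_A
  have h3 := (hL.trans h hz hz1).1
  have h4 := card_le_of_le h1
  have h5 := hL.card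
  have hpos : 0 < Nat.card A := Nat.card_pos
  rw [Local.card_conj_smul] at h2
  have h6 : Nat.card A ≤ Nat.card ↥(D ⊓ MulAut.conj x • D) := by
    by_contra hlt
    nlinarith
  have h7 := eq_of_le_of_card_ge h1 h6
  have h8 : Nat.card A = w := by nlinarith
  have h9 : D ⊔ MulAut.conj x • D = U := by
    refine eq_of_le_of_card_ge (sup_le hL.lt.le hE) (le_of_eq ?_)
    have e1 := Local.card_sup_mul_card_inf (hE.trans inf_le_right)
    rw [h7, Local.card_conj_smul] at e1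
    rw [← Local.card_mul_relIndex hL.lt.le, hL.idx, ← h8]
    apply Nat.eq_of_mul_eq_mul_right hpos
    rw [e1, mul_assoc, h5]
  have h10 : x * x * (x * x) = 1 := by
    rw [← h.pow_four T.isPGroup' hx.1]; simp [pow_succ, mul_assoc]
  have h11 : x * x ∈ D := by
    by_contra hD
    obtain ⟨d, hd, e, he, e1⟩ := (Local.mem_sup_of_right_le_normalizer (hE.trans inf_le_right)).1
      (h9 ▸ hx2)
    rw [← e1, mul_sq_eq_br (hL.sq_conj x e he), br_eq_one_iff (hL.sq d hd)] at h10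
    have := hL.mem_A hd (hE he) (fun e2 => hD (e1 ▸ mul_mem hd e2)) h10
    rw [← h7] at this
    have := Local.mem_conj_smul_iff.1 (e1 ▸ mul_mem this.2 he)
    exact hD (by simpa [mul_assoc] using this)
  have h12 : x * x ∈ A := h7 ▸ ⟨h11, Local.mem_conj_smul_iff.2 (by simpa [mul_assoc] using h11)⟩
  have h13 : a ∈ A := by
    refine hL.mem_A ha (hE hbE) hb ((br_eq_one_iff (hL.sq a ha)).1 ?_)
    rw [← mul_sq_eq_br (hL.sq_conj x _ hbE), ← h.pow_four T.isPGroup' (mul_mem (hL.lt.le ha).1 hx.1)]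
    have e1 := hL.central h12 (mul_mem (hL.lt.le ha) (hE hbE))
    calc _ = a * (x * a * x⁻¹) * (a * (x * a * x⁻¹) * (x * x)) * (x * x) * (x * x * (x * x))⁻¹ := by
          group
      _ = _ := by rw [e1, h10]; simp [pow_succ, mul_assoc]
  refine hL.not_le fun d hd => hL.mem_A hd (hE hbE) hb ?_
  have := hL.central h13 (Local.inv_conj_mem_of_mem_normalizer hx.2 (hL.lt.le hd))
  calc _ = x * (x⁻¹ * d * x * a) * x⁻¹ := by group
    _ = _ := by rw [this]; group

theorem exists_fused (hL : Loc T D A w) (h : Le5 G)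
    (hO : ∀ N : Subgroup G, N.Normal → IsPGroup 2 N → N = ⊥) :
    ∃ x ∈ D, ∃ g : G, g * x * g⁻¹ ∈ T ∧ g * x * g⁻¹ ∉ D := by
  have := Fact.mk Nat.prime_two
  by_contra! hSC
  have hT := hL.le_normalizer h
  have hD2 : IsPGroup 2 D := T.isPGroup'.to_le (hL.lt.le.trans inf_le_left)
  have hj : ∀ P : Sylow 2 G, ∃ j : G, ∀ y ∈ P, j⁻¹ * y * j ∈ T := fun P => by
    obtain ⟨j, rfl⟩ := exists_smul_eq G T P
    exact ⟨j, fun y hy => Local.mem_conj_smul_iff.1 hy⟩
  have hn : ∀ g : G, (∀ d ∈ D, g * d * g⁻¹ ∈ T) → g ∈ normalizer (D : Set G) :=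
    fun g hg => Local.mem_normalizer_of_conj_mem fun d hd => hSC d hd g (hg d hd)
  have hA : ∀ k d : G, d ≠ 1 → d ∈ D → k⁻¹ * d * k ∈ D → k ∈ normalizer (D : Set G) := by
    intro k d hd1 hd hk
    obtain ⟨P, hP⟩ := (h.isPGroup_centralizer hd1 (pow_four_of_mul_self (hL.sq d hd))).exists_le_sylow
    obtain ⟨j, hj⟩ := hj P
    have h1 := hn j⁻¹ fun x hx => by
      simpa using hj x (hP (mem_centralizer_singleton_iff.2 (comm_of_mul_self hL.sq hx hd)))
    have h2 := hn (j⁻¹ * k) fun x hx => by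
      have := hj (k * x * k⁻¹) (hP (mem_centralizer_singleton_iff.2 (by
        calc _ = k * (x * (k⁻¹ * d * k)) * k⁻¹ := by group
          _ = _ := by rw [comm_of_mul_self hL.sq hx hk]; group)))
      simpa [mul_assoc] using this
    exact (mul_mem_cancel_left h1).1 h2
  obtain ⟨u₀, hu₀, hu₀D⟩ := SetLike.exists_of_lt hL.lt
  obtain ⟨e, he, hu2⟩ := hL.lift u₀ hu₀ hu₀D
  have hu := mul_mem (hL.lt.le he) hu₀
  have huD : e * u₀ ∉ D := fun h1 => hu₀D ((mul_mem_cancel_left he).1 h1)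
  generalize e * u₀ = u at hu2 hu huD
  obtain ⟨d₀, hd₀, hd₀A⟩ := SetLike.not_le_iff_exists.1 hL.not_le
  have hd₀1 : d₀ ≠ 1 := by rintro rfl; exact hd₀A (one_mem _)
  have hB : u ∈ (normalizer (D : Set G)).normalCore := by
    intro g
    have h1 : g * u * g⁻¹ * (g * u * g⁻¹) = 1 := by simp [hu2]
    rcases h.cases (d₀ * (g * u * g⁻¹)) with h2 | h2
    · obtain ⟨P, h3, h4⟩ := h.exists_sylow_of_pow_four hd₀1 (hL.sq _ hd₀) h1 h2
      obtain ⟨j, hj⟩ := hj P
      have h5 := hA j d₀ hd₀1 hd₀ (by simpa using hSC d₀ hd₀ j⁻¹ (by simpa using hj _ h3))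
      have := mul_mem (mul_mem h5 (hT (hj _ h4))) (inv_mem h5)
      simpa [mul_assoc] using this
    · obtain ⟨v, -, hv⟩ := exists_conj_of_isOd (hL.sq _ hd₀) h1 h2
      have h3 : g⁻¹ * v * d₀ * (g⁻¹ * v)⁻¹ = u := by
        calc _ = g⁻¹ * (v * d₀ * v⁻¹) * g := by group
          _ = _ := by rw [hv]; group
      exact absurd (h3 ▸ hSC d₀ hd₀ (g⁻¹ * v) (h3 ▸ hu.1)) huD
  have haD : Sp5.br d₀ u ∈ D := br_mem (fun d hd => Local.conj_mem_of_mem_normalizer hu.2 hd) hd₀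
  have ha : Sp5.br d₀ u ∈ (normalizer (D : Set G)).normalCore := by
    have := mul_mem (Normal.conj_mem inferInstance _ hB d₀) (inv_mem hB)
    rw [inv_eq_of_mul_self (hL.sq _ hd₀)] at this
    simpa [Sp5.br, mul_assoc] using this
  have hC : Sp5.br d₀ u ∈ D.normalCore := by
    intro g
    obtain ⟨P, hP⟩ := (hD2.to_sup_of_normal_left' (isPGroup_zpowers (x := g * Sp5.br d₀ u * g⁻¹) (by
      rw [conj_pow, pow_four_of_mul_self (hL.sq _ haD), mul_one, mul_inv_cancel]))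
      (zpowers_le.2 (ha g))).exists_le_sylow
    obtain ⟨j, hj⟩ := hj P
    have h1 := hn j⁻¹ fun x hx => by simpa using hj x (hP (mem_sup_left hx))
    have h2 := hSC _ haD (j⁻¹ * g) (by
      simpa [mul_assoc] using hj _ (hP (mem_sup_right (mem_zpowers _))))
    simpa [mul_assoc] using Local.inv_conj_mem_of_mem_normalizer h1 h2
  rw [hO _ inferInstance (hD2.to_le (normalCore_le D)), mem_bot, br_eq_one_iff (hL.sq _ hd₀)] at hC
  exact hd₀A (hL.mem_A hd₀ hu huD hC)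

theorem card_A (hL : Loc T D A w) (h : Le5 G) {x g : G} (hx : x ∈ D) (h1 : g * x * g⁻¹ ∈ T)
    (h2 : g * x * g⁻¹ ∉ D) : Nat.card A = w := by
  have := Fact.mk Nat.prime_two
  have hT := hL.le_normalizer h
  obtain ⟨z, hz, hz1⟩ := hL.exists_A
  refine le_antisymm ?_ (hL.trans h hz hz1).1
  have hpos : 0 < Nat.card A := Nat.card_pos
  have hxE := Local.conj_mem_conj_smul g hx
  have h5 := hL.card
  rcases bot_or_exists_ne_one (A ⊓ MulAut.conj g • D) with e | ⟨a, ha, ha1⟩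
  · obtain ⟨P, hP⟩ := (h.isPGroup_centralizer (t := g * x * g⁻¹) (by rintro e; exact h2 (e ▸ one_mem D))
      (pow_four_of_mul_self (hL.sq_conj g _ hxE))).exists_le_sylow
    have h3 := Nat.card_le_card_of_injective (β := P) (fun y : A × ↥(MulAut.conj g • D) =>
      ⟨y.1 * y.2, hP (mul_mem (mem_centralizer_singleton_iff.2
        (hL.central y.1.2 ⟨h1, hT h1⟩).symm) (mem_centralizer_singleton_iff.2
          (comm_of_mul_self (hL.sq_conj g) y.2.2 hxE)))⟩)
      fun a b e1 => mul_injective_of_disjoint (disjoint_iff.2 e) (congrArg Subtype.val e1)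
    have h4 := Local.card_mul_relIndex hL.lt.le
    rw [hL.idx, inf_eq_left.2 hT, T.card_eq_multiplicity, ← P.card_eq_multiplicity] at h4
    rw [Nat.card_prod, Local.card_conj_smul] at h3
    have : 0 < Nat.card D := Nat.card_pos
    nlinarith
  · have h3 : MulAut.conj g • D ≤ T := fun y hy => hL.centralizer_le h ha.1 ha1
      (mem_centralizer_singleton_iff.2 (comm_of_mul_self (hL.sq_conj g) hy ha.2))
    obtain ⟨h4, h6⟩ := hL.bound (le_inf h3 (h3.trans hT))
      (fun _ h1 _ h2 => comm_of_mul_self (hL.sq_conj g) h1 h2) hxE h2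
    have h7 := card_le_of_le h4
    rw [Local.card_conj_smul] at h6
    nlinarith

theorem card_sqrt (hL : Loc T D A w) (h : Le5 G) {z : G} (hz : z ∈ A) (hz1 : z ≠ 1) :
    Nat.card {y : G // y * y = z} = (w - 1) * Nat.card A := by
  classical
  have hT := hL.le_normalizer h
  have hy : ∀ y : {y : G // y * y = z}, (y : G) ∈ T := fun y =>
    hL.centralizer_le h hz hz1 (mem_centralizer_singleton_iff.2 (by
      obtain ⟨y, rfl⟩ := y; exact (mul_assoc _ _ _).symm))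
  have := Fintype.ofFinite ((T : Subgroup G) ⧸ D.subgroupOf T)
  have hn := normal_subgroupOf_of_le_normalizer hT
  let f : {y : G // y * y = z} → (T : Subgroup G) ⧸ D.subgroupOf T :=
    fun y => QuotientGroup.mk ⟨y, hy y⟩
  rw [← Nat.card_congr (Equiv.sigmaFiberEquiv f), Nat.card_sigma,
    ← Finset.sum_erase (s := Finset.univ) (a := 1), Finset.sum_congr rfl (g := fun _ => Nat.card A),
    Finset.sum_const, Finset.card_erase_of_mem (Finset.mem_univ _), Finset.card_univ,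
    ← Nat.card_eq_fintype_card, ← hL.idx, inf_eq_left.2 hT]
  · rfl
  · intro c hc
    obtain ⟨⟨u₀, hu₀⟩, rfl⟩ := QuotientGroup.mk_surjective c
    have hu₀D : u₀ ∉ D := fun e => (Finset.mem_erase.1 hc).1 ((QuotientGroup.eq_one_iff _).2 e)
    obtain ⟨e, he, hu2⟩ := hL.lift u₀ ⟨hu₀, hT hu₀⟩ hu₀D
    have hu := mul_mem (hL.lt.le he) ⟨hu₀, hT hu₀⟩
    have huD : e * u₀ ∉ D := fun h1 => hu₀D ((mul_mem_cancel_left he).1 h1)
    obtain ⟨d₀, hd₀, rfl⟩ := hL.br _ hu huD z hz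
    rw [← hL.cen _ hu huD, ← card_br_fiber hL.sq
      (fun d hd => Local.conj_mem_of_mem_normalizer hu.2 hd) hd₀]
    symm
    refine Nat.card_congr (Equiv.ofBijective (fun d => ⟨⟨d.1 * (e * u₀),
      (mul_sq_eq_br hu2).trans d.2⟩, QuotientGroup.eq.2 ?_⟩) ⟨?_, ?_⟩)
    · change ((d.1 : G) * (e * u₀))⁻¹ * u₀ ∈ D
      simpa [mul_assoc] using Local.inv_conj_mem_of_mem_normalizer (hT hu₀)
        (inv_mem (mul_mem d.1.2 he))
    · intro a b e1
      exact Subtype.ext (Subtype.ext (mul_right_cancel (congrArg (fun y => (y.1 : G)) e1)))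
    · rintro ⟨y, hy'⟩
      have h1 : (y : G)⁻¹ * u₀ ∈ D := (QuotientGroup.eq (s := D.subgroupOf T)).1 hy'
      have h2 : (y : G) * (e * u₀)⁻¹ ∈ D := by
        simpa [mul_assoc] using mul_mem (Local.conj_mem_of_mem_normalizer (hT hu₀) (inv_mem h1))
          (inv_mem he)
      refine ⟨⟨⟨_, h2⟩, ?_⟩, Subtype.ext (Subtype.ext (inv_mul_cancel_right _ _))⟩
      rw [← mul_sq_eq_br hu2, inv_mul_cancel_right, y.2]
  · rw [Nat.card_eq_zero]
    exact Or.inl ⟨fun ⟨y, hy'⟩ => hz1 (y.2 ▸ hL.sq _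
      ((QuotientGroup.eq_one_iff (N := D.subgroupOf T) _).1 hy'))⟩

end Loc

theorem Le5.small (h : Le5 G) (hT : ¬ SylowTI 2 G)
    (hO : ∀ N : Subgroup G, N.Normal → IsPGroup 2 N → N = ⊥) :
    ∃ (T : Sylow 2 G) (z : G) (w : ℕ), (w = 2 ∨ w = 4) ∧ Nat.card T = w * w * w ∧ orderOf z = 2 ∧
      centralizer {z} = (T : Subgroup G) ∧ (∀ i : G, orderOf i = 2 → IsConj z i) ∧
      Nat.card {y : G // y * y = z} = (w - 1) * w ∧ (∃ σ u : G, Dih σ u ∧ orderOf σ = 3) ∧
      (w = 4 → ∃ σ u : G, Dih σ u ∧ orderOf σ = 5) := by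
  have := Fact.mk Nat.prime_two
  obtain ⟨T, D, A, w, hL⟩ := h.exists_loc hT
  obtain ⟨x, hx, g, h1, h2⟩ := hL.exists_fused h hO
  have hA := hL.card_A h hx h1 h2
  have hT := hL.le_normalizer h
  obtain ⟨z, hz, hz1⟩ := hL.exists_A
  have htr := (hL.trans h hz hz1).2 hA
  have hD := hL.card
  rw [hA] at hD
  refine ⟨T, z, w, hL.w_eq, ?_, orderOf_eq_prime (by rw [pow_two, hL.sq z (hL.A_le hz)]) hz1,
    le_antisymm (hL.centralizer_le h hz hz1) fun y hy =>
      mem_centralizer_singleton_iff.2 (hL.central hz ⟨hy, hT hy⟩), fun i hi => ?_,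
    hA ▸ hL.card_sqrt h hz hz1, ?_, hL.dih5⟩
  · have h4 := Local.card_mul_relIndex hL.lt.le
    rw [hL.idx, inf_eq_left.2 hT, ← hD] at h4
    exact h4.symm
  · obtain ⟨P, hP⟩ := (Local.isPGroup_zpowers_of_orderOf_eq hi).exists_le_sylow
    obtain ⟨j, rfl⟩ := exists_smul_eq G T P
    have h3 : j⁻¹ * i * j ∈ T := Local.mem_conj_smul_iff.1 (hP (mem_zpowers i))
    refine IsConj.trans (b := j⁻¹ * i * j) ?_ (isConj_iff.2 ⟨j, by group⟩)
    have h4 : j⁻¹ * i * j * (j⁻¹ * i * j) = 1 := by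
      have : i * i = 1 := by rw [← pow_two, ← hi, pow_orderOf_eq_one]
      calc _ = j⁻¹ * (i * i) * j := by group
        _ = 1 := by rw [this, mul_one, inv_mul_cancel]
    have h5 : j⁻¹ * i * j ≠ 1 := fun e => Local.ne_one_of_orderOf_eq_prime Nat.prime_two hi (by
      calc _ = j * (j⁻¹ * i * j) * j⁻¹ := by group
        _ = 1 := by rw [e, mul_one, mul_inv_cancel])
    generalize j⁻¹ * i * j = t at h3 h4 h5
    by_cases htD : t ∈ D
    · exact htr t htD h5
    obtain ⟨m, e, he, e1⟩ := hL.conj t ⟨h3, hT h3⟩ htD _ ⟨h1, hT h1⟩ h2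
    have h6 := hL.sq_conj g _ (Local.conj_mem_conj_smul g hx)
    have h7 : br e (g * x * g⁻¹) = 1 := by rw [← mul_sq_eq_br h6, ← e1]; simp [h4]
    obtain ⟨d, hd, rfl⟩ := hL.br _ ⟨h1, hT h1⟩ h2 e
      (hL.mem_A he ⟨h1, hT h1⟩ h2 ((br_eq_one_iff (hL.sq e he)).1 h7))
    refine (htr x hx (by rintro rfl; exact h2 (by simp))).trans
      (isConj_iff.2 ⟨m⁻¹ * d * g, ?_⟩)
    calc _ = m⁻¹ * (d * (g * x * g⁻¹) * d⁻¹) * m := by group
      _ = m⁻¹ * (br d (g * x * g⁻¹) * (g * x * g⁻¹)) * m := by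
        rw [inv_eq_of_mul_self (hL.sq d hd), br]; group
      _ = t := by rw [← e1]; group
  · obtain ⟨σ, u, hd, hσ, h3⟩ := hL.dih
    refine ⟨σ, u, hd, hL.w_eq.elim (fun hw => hd.od.resolve_right fun h5 => ?_) h3⟩
    obtain ⟨y, hy, hy1, hc⟩ := LinP.exists_fixed_of_normalizes Nat.prime_five h5 hσ
      (by rw [← hD, hw]; decide)
    exact hy1 (h.eq_one_of_commute hd.od (pow_four_of_mul_self (hL.sq y hy)) hc.symm)

end Cfsg.Agent.Sp5
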