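import Cfsg.Agent.Sp5.TI

/-! The normaliser of a maximal intersection of Sylow `2`-subgroups. -/

set_option autoImplicit false

namespace Cfsg.Agent.Sp5

open Subgroup PSL2Rec MulAction

universe u

variable {G : Type u} [Group G]

theorem Dih.map {H : Type*} [Group H] {f : G →* H} (hf : Function.Injective f) {σ u : G}
    (h : Dih σ u) : Dih (f σ) (f u) :=
  ⟨by have := h.od; unfold IsOd at this ⊢; rwa [orderOf_injective f hf],
    by rw [← map_mul, h.sq, map_one], by rw [← map_inv, ← map_mul, ← map_mul, h.inv, map_inv]⟩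

theorem exists_dih_alt5 (p : ℕ) (hp : p = 3 ∨ p = 5) :
    ∃ σ u : alternatingGroup (Fin 5), Dih σ u ∧ orderOf σ = p := by
  rcases hp with rfl | rfl
  · have := Fact.mk Nat.prime_three
    let σ : alternatingGroup (Fin 5) := ⟨Equiv.swap 0 1 * Equiv.swap 0 2,
      Equiv.Perm.mem_alternatingGroup.2 (by decide)⟩
    have hσ : orderOf σ = 3 := orderOf_eq_prime (Subtype.ext (by decide))
      (fun e => absurd (congrArg Subtype.val e) (by decide))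
    exact ⟨σ, ⟨Equiv.swap 0 1 * Equiv.swap 3 4, Equiv.Perm.mem_alternatingGroup.2 (by decide)⟩,
      ⟨Or.inl hσ, Subtype.ext (by decide), Subtype.ext (by decide)⟩, hσ⟩
  · have := Fact.mk Nat.prime_five
    let σ : alternatingGroup (Fin 5) := ⟨finRotate 5, Equiv.Perm.mem_alternatingGroup.2 (by decide)⟩
    have hσ : orderOf σ = 5 := orderOf_eq_prime (Subtype.ext (by decide))
      (fun e => absurd (congrArg Subtype.val e) (by decide))
    exact ⟨σ, ⟨Equiv.swap 1 4 * Equiv.swap 2 3, Equiv.Perm.mem_alternatingGroup.2 (by decide)⟩,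
      ⟨Or.inr hσ, Subtype.ext (by decide), Subtype.ext (by decide)⟩, hσ⟩

theorem inf_centralizer_mul {D : Subgroup G} (hD : ∀ x ∈ D, x * x = 1) {e u : G} (he : e ∈ D) :
    D ⊓ centralizer {e * u} = D ⊓ centralizer {u} := by
  ext x
  simp only [mem_inf, mem_centralizer_singleton_iff]
  refine and_congr_right fun hx => ?_
  rw [← mul_assoc, comm_of_mul_self hD hx he, mul_assoc, mul_assoc, mul_right_inj]

theorem br_mul_right {D : Subgroup G} (hD : ∀ x ∈ D, x * x = 1) {e u d : G} (he : e ∈ D)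
    (hd : u * d * u⁻¹ ∈ D) : br d (e * u) = br d u := by
  calc _ = d * (e * (u * d * u⁻¹) * e⁻¹) := by rw [br]; group
    _ = _ := by rw [comm_of_mul_self hD he hd, mul_inv_cancel_right, br]

variable [Finite G]

theorem Le5.lift_dih (h : Le5 G) {H : Type*} [Group H] (f : G →* H) (hf : IsPGroup 2 f.ker)
    {σ u : G} (hd : Dih (f σ) (f u)) :
    orderOf σ = orderOf (f σ) ∧ ∃ e ∈ f.ker, Dih σ (e * u) := by
  have h1 := h.isOd_of_map f hd.od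
  have h2 : IsOd σ := by have := hd.od; unfold IsOd at this ⊢; rwa [h1]
  obtain ⟨e, he, h3, h4⟩ := h.exists_lift (u := u) hf h2 (fun d hd => Normal.conj_mem inferInstance d hd _)
    (fun d hd => Normal.conj_mem inferInstance d hd _) (by rw [MonoidHom.mem_ker, map_mul, hd.sq])
    (by rw [MonoidHom.mem_ker, map_mul, map_mul, map_mul, map_inv, hd.inv, inv_mul_cancel])
  exact ⟨h1, e, he, h2, h3, h4⟩

theorem Le5.sq_mem (h : Le5 G) {D : Subgroup G} (hD : ∀ x ∈ D, x * x = 1) (hD1 : D ≠ ⊥) {σ e u : G}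
    (hσD : ∀ d ∈ D, σ * d * σ⁻¹ ∈ D) (huD : ∀ d ∈ D, u * d * u⁻¹ ∈ D) (he : e ∈ D)
    (hu : u ^ 4 = 1) (h4 : ∀ d ∈ D, (d * u) ^ 4 = 1) : ¬ Dih σ (e * (u * u)) := fun hd => by
  have h2 : ∀ d ∈ D, u * u * d * (u * u)⁻¹ ∈ D := fun d hd => by
    simpa [mul_assoc] using huD _ (huD d hd)
  have h3 : ∀ d ∈ D, e * (u * u) * d * (e * (u * u))⁻¹ ∈ D := fun d hd => by
    simpa [mul_assoc] using mul_mem (mul_mem he (h2 d hd)) (inv_mem he)
  have h5 : ∀ d ∈ D, br (br d u) (u * u) = 1 := fun d hd => by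
    calc _ = (d * u) ^ 4 * (u ^ 4)⁻¹ := by
          simp only [br, pow_succ, pow_zero, mul_inv_rev, one_mul, mul_assoc, inv_mul_cancel_left,
            mul_inv_cancel_left]
      _ = 1 := by rw [h4 d hd, hu, inv_one, one_mul]
  have h6 := h.card_sq hD hd hσD h3
  have h7 : D ⊓ centralizer {e * (u * u)} = D := by
    rw [inf_centralizer_mul hD he, inf_eq_left]
    intro d hd1
    have hy := br_mem huD hd1
    obtain ⟨d', hd', e1⟩ := h.exists_br hD hd hσD h3 hy (mem_centralizer_singleton_iff.1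
      ((inf_centralizer_mul hD he).ge ⟨hy, mem_centralizer_singleton_iff.2
        ((br_eq_one_iff (hD _ hy)).1 (h5 d hd1))⟩).2)
    rw [br_mul_right hD he (h2 d' hd')] at e1
    rw [mem_centralizer_singleton_iff, ← br_eq_one_iff (hD d hd1)]
    calc _ = d * (u * d * u⁻¹ * (u * d * u⁻¹)) * (u * u * d * (u * u)⁻¹) := by
          rw [hD _ (huD d hd1), mul_one, br]
      _ = br (br d u) u := by simp only [br]; group
      _ = d' * (u * u * d' * (u * u)⁻¹ * (u * d' * u⁻¹)) * (u * (u * u * d' * (u * u)⁻¹) * u⁻¹) := by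
          rw [e1]; simp only [br]; group
      _ = br (br d' u) (u * u) := by
          rw [comm_of_mul_self hD (h2 d' hd') (huD d' hd')]; simp only [br]; group
      _ = 1 := h5 d' hd'
  rw [h7] at h6
  have := (one_lt_card_iff_ne_bot D).2 hD1
  nlinarith

/-- The local data at a maximal intersection `D` of Sylow `2`-subgroups. -/
structure Loc (T : Sylow 2 G) (D A : Subgroup G) (w : ℕ) : Prop where
  ne : D ≠ ⊥
  lt : D < (T : Subgroup G) ⊓ normalizer (D : Set G)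
  sq : ∀ x ∈ D, x * x = 1
  w_eq : w = 2 ∨ w = 4
  idx : D.relIndex ((T : Subgroup G) ⊓ normalizer (D : Set G)) = w
  cen : ∀ u ∈ (T : Subgroup G) ⊓ normalizer (D : Set G), u ∉ D → D ⊓ centralizer {u} = A
  br : ∀ u ∈ (T : Subgroup G) ⊓ normalizer (D : Set G), u ∉ D → ∀ x ∈ A, ∃ d ∈ D, x = br d u
  card : Nat.card A * Nat.card A = Nat.card D
  lift : ∀ u ∈ (T : Subgroup G) ⊓ normalizer (D : Set G), u ∉ D → ∃ e ∈ D, e * u * (e * u) = 1
  conj : ∀ u ∈ (T : Subgroup G) ⊓ normalizer (D : Set G), u ∉ D →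
    ∀ u' ∈ (T : Subgroup G) ⊓ normalizer (D : Set G), u' ∉ D → ∃ m e : G, e ∈ D ∧
      m * u * m⁻¹ = e * u'
  orbit : w * w ≤ (T : Subgroup G).relIndex (normalizer (D : Set G)) + 1
  uniq : ∀ R : Subgroup G, D < R → ∀ P Q : Sylow 2 G, R ≤ P → R ≤ Q → P = Q
  dih : ∃ σ u : G, Dih σ u ∧ σ ∈ normalizer (D : Set G) ∧ (w = 4 → orderOf σ = 3)
  dih5 : w = 4 → ∃ σ u : G, Dih σ u ∧ orderOf σ = 5

theorem Le5.exists_loc (h : Le5 G) (hT : ¬ SylowTI 2 G) :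
    ∃ (T : Sylow 2 G) (D A : Subgroup G) (w : ℕ), Loc T D A w := by
  have := Fact.mk Nat.prime_two
  unfold SylowTI at hT
  push Not at hT
  obtain ⟨P₀, Q₀, x, hx1, hxP, hxQ, hPQ₀⟩ := hT
  obtain ⟨D, hxD, ⟨T, T', hTT, hDT, hDT'⟩, hmax⟩ := Finite.exists_le_maximal
    (p := fun D : Subgroup G => ∃ P Q : Sylow 2 G, P ≠ Q ∧ D ≤ P ∧ D ≤ Q) (a := zpowers x)
    ⟨P₀, Q₀, hPQ₀, zpowers_le.2 hxP, zpowers_le.2 hxQ⟩
  have hD1 : D ≠ ⊥ := fun e => hx1 (mem_bot.1 (e ▸ hxD (mem_zpowers x)))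
  have huniq : ∀ R : Subgroup G, D < R → ∀ P Q : Sylow 2 G, R ≤ P → R ≤ Q → P = Q :=
    fun R hR P Q h1 h2 => by_contra fun hne => hR.not_ge (hmax ⟨P, Q, hne, h1, h2⟩ hR.le)
  have hD2 : IsPGroup 2 D := T.isPGroup'.to_le hDT
  have hlt : ∀ P Q : Sylow 2 G, P ≠ Q → D ≤ P → D ≤ Q →
      D < (P : Subgroup G) ⊓ normalizer (D : Set G) := fun P Q hne h1 h2 =>
    exists_mem_normalizer_notMem P.isPGroup' (lt_of_le_of_ne h1 fun e =>
      hne (Sylow.ext (P.is_maximal' Q.isPGroup' (e ▸ h2)).symm))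
  set M := normalizer (D : Set G) with hM
  have hDM : D ≤ M := le_normalizer
  have := normal_subgroupOf_of_le_normalizer (le_refl M)
  let φ := QuotientGroup.mk' (D.subgroupOf M)
  have hφ := QuotientGroup.mk'_surjective (D.subgroupOf M)
  have hφ1 : ∀ x : M, φ x = 1 ↔ (x : G) ∈ D := fun x => QuotientGroup.eq_one_iff x
  have hker : IsPGroup 2 φ.ker := by rw [QuotientGroup.ker_mk']; exact hD2.comap_subtype
  have hX := (h.subgroup M).quotient (D.subgroupOf M)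
  have him : ∀ P : Sylow 2 G, IsPGroup 2 (((P : Subgroup G).subgroupOf M).map φ) :=
    fun P => P.isPGroup'.comap_subtype.map φ
  have hW : ∀ W : Sylow 2 (M ⧸ D.subgroupOf M), ∃ P : Sylow 2 G, D ≤ P ∧
      ∀ x : M, φ x ∈ W ↔ (x : G) ∈ P := by
    intro W
    obtain ⟨P, hP⟩ := ((W.isPGroup'.comap_of_ker_isPGroup φ hker).map M.subtype).exists_le_sylow
    have h1 : ∀ x : M, φ x ∈ W → (x : G) ∈ P := fun x hx => hP ⟨x, hx, rfl⟩
    have h2 : D ≤ P := fun d hd => h1 ⟨d, hDM hd⟩ (by rw [(hφ1 ⟨d, hDM hd⟩).2 hd]; exact one_mem _)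
    refine ⟨P, h2, fun x => ⟨h1 x, fun hx => ?_⟩⟩
    have h3 := W.is_maximal' (him P) fun y hy => by
      obtain ⟨y, rfl⟩ := hφ y
      exact mem_map_of_mem φ (h1 y hy)
    exact h3.le (mem_map_of_mem φ hx)
  have hTI : SylowTI 2 (M ⧸ D.subgroupOf M) := by
    intro W W' y hy1 hW1 hW2
    obtain ⟨y, rfl⟩ := hφ y
    obtain ⟨P, hP, hP'⟩ := hW W
    obtain ⟨Q, hQ, hQ'⟩ := hW W'
    obtain rfl := huniq (D ⊔ zpowers (y : G)) (left_lt_sup.2 fun e =>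
      hy1 ((hφ1 y).2 (e (mem_zpowers _)))) P Q (sup_le hP (zpowers_le.2 ((hP' y).1 hW1)))
      (sup_le hQ (zpowers_le.2 ((hQ' y).1 hW2)))
    refine Sylow.ext (Subgroup.ext fun z => ?_)
    obtain ⟨z, rfl⟩ := hφ z
    exact (hP' z).trans (hQ' z).symm
  have hW' : ∀ P : Sylow 2 G, D < (P : Subgroup G) ⊓ M → ∃ W : Sylow 2 (M ⧸ D.subgroupOf M),
      ∀ x : M, φ x ∈ W ↔ (x : G) ∈ P := by
    intro P hP
    obtain ⟨W, hW1⟩ := (him P).exists_le_sylow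
    obtain ⟨Q, -, hQ⟩ := hW W
    obtain rfl := huniq _ hP P Q inf_le_left fun x hx =>
      (hQ ⟨x, hx.2⟩).1 (hW1 (mem_map_of_mem φ hx.1))
    exact ⟨W, hQ⟩
  have hU := hlt T T' hTT hDT hDT'
  obtain ⟨W, hWT⟩ := hW' T hU
  obtain ⟨W', hWT'⟩ := hW' T' (hlt T' T hTT.symm hDT' hDT)
  have hWW : W ≠ W' := by
    rintro rfl
    exact hTT (huniq _ hU T T' inf_le_left fun x hx => (hWT' ⟨x, hx.2⟩).1 ((hWT ⟨x, hx.2⟩).2 hx.1))
  have hWc : Nat.card W = D.relIndex ((T : Subgroup G) ⊓ M) := by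
    have : (W : Subgroup (M ⧸ D.subgroupOf M)) = ((T : Subgroup G).subgroupOf M).map φ := by
      ext y
      obtain ⟨y, rfl⟩ := hφ y
      refine (hWT y).trans ⟨fun hy => mem_map_of_mem φ hy, ?_⟩
      rintro ⟨z, hz, e⟩
      exact (hWT y).1 (e ▸ (hWT z).2 hz)
    change Nat.card (W : Subgroup (M ⧸ D.subgroupOf M)) = _
    rw [this, ← relIndex_ker, QuotientGroup.ker_mk', ← inf_subgroupOf_right (T : Subgroup G),
      relIndex_subgroupOf inf_le_right]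
  have h2X : 2 ∣ Nat.card (M ⧸ D.subgroupOf M) := by
    refine dvd_trans ?_ (W : Subgroup (M ⧸ D.subgroupOf M)).card_subgroup_dvd_card
    refine (W.isPGroup'.card_eq_or_dvd).resolve_left fun e => ?_
    rw [hWc, relIndex_eq_one] at e
    exact hU.not_ge e
  obtain ⟨t, htW, ht1, ht2⟩ := exists_inv h2X W'
  have hlift : ∀ σ u : M, Dih (φ σ) (φ u) →
      orderOf (σ : G) = orderOf (φ σ) ∧ ∃ e ∈ D, Dih (σ : G) (e * u) := fun σ u hd => by
    obtain ⟨h1, e, he, h2⟩ := (h.subgroup M).lift_dih φ hker hd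
    exact ⟨(orderOf_coe σ).trans h1, e, (hφ1 e).1 he, h2.map M.subtype_injective⟩
  have hsq : ∀ u : M, (u : G) * u ∈ D → φ u * φ u = 1 := fun u hu => by
    rw [← map_mul, hφ1]; exact hu
  have hdih : ∀ u ∈ (T : Subgroup G) ⊓ M, u ∉ D → u * u ∈ D →
      ∃ σ ∈ M, ∃ e ∈ D, Dih σ (e * u) := by
    intro u hu huD hu2
    obtain ⟨σ, hσ⟩ := hφ (φ ⟨u, hu.2⟩ * t)
    have h1 := hsq ⟨u, hu.2⟩ hu2
    refine ⟨σ, σ.2, (hlift σ ⟨u, hu.2⟩ ⟨?_, h1, ?_⟩).2⟩ <;> rw [hσ]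
    · exact hX.isOd_mul hTI hWW ((hWT _).2 hu.1) htW (mt (hφ1 _).1 huD) ht1 h1 ht2
    · rw [← mul_assoc, h1, one_mul, mul_inv_rev, inv_eq_of_mul_self ht2]
  have hn : ∀ g ∈ M, ∀ d ∈ D, g * d * g⁻¹ ∈ D := fun g hg d hd =>
    Local.conj_mem_of_mem_normalizer hg hd
  obtain ⟨s, hsW, hs1, hs2⟩ := exists_inv h2X W
  obtain ⟨u₀, rfl⟩ := hφ s
  have hu₀ : (u₀ : G) ∈ (T : Subgroup G) ⊓ M := ⟨(hWT u₀).1 hsW, u₀.2⟩
  have hu₀D : (u₀ : G) ∉ D := mt (hφ1 u₀).2 hs1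
  obtain ⟨σ₀, hσ₀, e₀, he₀, hd₀⟩ := hdih u₀ hu₀ hu₀D ((hφ1 (u₀ * u₀)).1 (by rw [map_mul, hs2]))
  have hDsq : ∀ x ∈ D, x * x = 1 := fun x hx =>
    h.elem hD2 hd₀ (hn _ hσ₀) (hn _ (mul_mem (hDM he₀) u₀.2)) hx
  have hUsq : ∀ u ∈ (T : Subgroup G) ⊓ M, u * u ∈ D := fun u hu => by_contra fun hne => by
    have h4 := h.pow_four T.isPGroup' hu.1
    obtain ⟨σ, hσ, e, he, hd⟩ := hdih _ (mul_mem hu hu) hne (by
      rw [show u * u * (u * u) = u ^ 4 by simp [pow_succ, mul_assoc], h4]; exact one_mem D)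
    exact h.sq_mem hDsq hD1 (hn _ hσ) (hn _ hu.2) he h4
      (fun d hd => h.pow_four T.isPGroup' (mul_mem (hDT hd) hu.1)) hd
  have hcard : ∀ u ∈ (T : Subgroup G) ⊓ M, u ∉ D →
      Nat.card ↥(D ⊓ centralizer {u}) * Nat.card ↥(D ⊓ centralizer {u}) = Nat.card D ∧
      ∀ x ∈ D ⊓ centralizer {u}, ∃ d ∈ D, x = br d u := by
    intro u hu huD
    obtain ⟨σ, hσ, e, he, hd⟩ := hdih u hu huD (hUsq u hu)
    have h1 := hn _ (mul_mem (hDM he) hu.2)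
    rw [← inf_centralizer_mul hDsq he]
    refine ⟨h.card_sq hDsq hd (hn _ hσ) h1, fun x hx => ?_⟩
    obtain ⟨d, hd1, e1⟩ := h.exists_br hDsq hd (hn _ hσ) h1 hx.1
      (mem_centralizer_singleton_iff.1 hx.2)
    exact ⟨d, hd1, e1.trans (br_mul_right hDsq he (hn _ hu.2 d hd1))⟩
  have hti := hX.ti hTI h2X hWW
  have hconj : ∀ u ∈ (T : Subgroup G) ⊓ M, u ∉ D → ∀ u' ∈ (T : Subgroup G) ⊓ M, u' ∉ D →
      ∃ m ∈ M, ∃ e ∈ D, m * u * m⁻¹ = e * u' ∧ (m = 1 ∨ (orderOf m = 3 ∧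
        ∀ x ∈ (T : Subgroup G) ⊓ M, m * x * m⁻¹ ∈ (T : Subgroup G) ⊓ M)) := by
    intro u hu huD u' hu' huD'
    have a1 := (hWT ⟨u, hu.2⟩).2 hu.1
    have a2 := (hWT ⟨u', hu'.2⟩).2 hu'.1
    have a3 := mt (hφ1 ⟨u, hu.2⟩).1 huD
    have a4 := mt (hφ1 ⟨u', hu'.2⟩).1 huD'
    have a5 := hsq ⟨u, hu.2⟩ (hUsq u hu)
    have a6 := hsq ⟨u', hu'.2⟩ (hUsq u' hu')
    have key : ∀ m : M, φ m * φ ⟨u, hu.2⟩ * (φ m)⁻¹ = φ ⟨u', hu'.2⟩ →
        ∃ e ∈ D, m * u * (m : G)⁻¹ = e * u' := fun m hm =>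
      ⟨m * u * (m : G)⁻¹ * u'⁻¹, (hφ1 (m * ⟨u, hu.2⟩ * m⁻¹ * ⟨u', hu'.2⟩⁻¹)).1 (by
        rw [map_mul, map_mul, map_mul, map_inv, map_inv, hm, mul_inv_cancel]), by group⟩
    rcases hti with h1 | ⟨-, -, h1⟩
    · obtain ⟨e, he, e1⟩ := key 1 (by simpa using h1 _ a1 _ a2 a3 a4 a5 a6)
      exact ⟨1, one_mem _, e, he, e1, Or.inl rfl⟩
    · obtain ⟨v, hv, b1, b2, -⟩ := hX.exists_swap' hTI h2X hWW
      obtain ⟨k, k1, k2, k3, -⟩ := hX.exists_fix_conj hTI hWW hv b1 b2 a1 a2 a3 a4 a5 a6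
      rcases h1 k k1 k2 with rfl | hk
      · obtain ⟨e, he, e1⟩ := key 1 (by simpa using k3)
        exact ⟨1, one_mem _, e, he, e1, Or.inl rfl⟩
      · obtain ⟨m, rfl⟩ := hφ k
        obtain ⟨e, he, e1⟩ := key m k3
        refine ⟨m, m.2, e, he, e1, Or.inr ⟨?_, fun x hx => ⟨?_, M.mul_mem (M.mul_mem m.2 hx.2)
          (M.inv_mem m.2)⟩⟩⟩
        · exact (orderOf_coe m).trans (((h.subgroup M).isOd_of_map φ (Or.inl hk)).trans hk)
        · have := conj_mem_smul ((hWT ⟨x, hx.2⟩).2 hx.1) (φ m)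
          rw [k1, ← map_inv, ← map_mul, ← map_mul] at this
          exact (hWT _).1 this
  have hcen : ∀ u ∈ (T : Subgroup G) ⊓ M, u ∉ D →
      D ⊓ centralizer {u} = D ⊓ centralizer {(u₀ : G)} := by
    intro u hu huD
    obtain ⟨m, hm, e, he, e1, rfl | ⟨h1, h2⟩⟩ := hconj u₀ hu₀ hu₀D u hu huD
    · rw [← inf_centralizer_mul hDsq he, ← e1, one_mul, inv_one, mul_one]
    refine eq_of_le_of_card_ge (fun x hx => ⟨hx.1, ?_⟩) (Nat.mul_self_inj.1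
      ((hcard _ hu₀ hu₀D).1.trans (hcard u hu huD).1.symm)).le
    obtain ⟨d, hd, rfl⟩ := (hcard u hu huD).2 x hx
    have hU2 : IsPGroup 2 ↥((T : Subgroup G) ⊓ M) := T.isPGroup'.to_le inf_le_left
    have c1 := h.comm_conj hU2 h1 h2 hu₀
    have c2 := h.comm_conj hU2 h1 h2 (mul_mem (hU.le hd) hu₀)
    have hd' := hn m hm d hd
    have : br d u = br (m * d * m⁻¹) u₀ := by
      rw [← br_mul_right hDsq he (hn u hu.2 d hd), ← e1]
      rw [← conj_mul] at c2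
      have hb := hn _ (h2 _ hu₀).2 d hd
      generalize m * d * m⁻¹ = d' at c2 hd' ⊢
      generalize m * u₀ * m⁻¹ = u' at c1 c2 hb ⊢
      have c3 : d * (u₀ * d' * (u₀ : G)⁻¹) = d' * (u' * d * u'⁻¹) := by
        rw [← mul_left_inj (u₀ * u')]
        calc _ = d * u₀ * (d' * u') := by group
          _ = _ := by rw [c2, c1]; group
      calc br d u' = d * d' * (d' * (u' * d * u'⁻¹)) := by
            rw [mul_assoc, ← mul_assoc d', hDsq d' hd', one_mul, br]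
        _ = _ := by
            rw [← c3, comm_of_mul_self hDsq hd hd', mul_assoc, ← mul_assoc d, hDsq d hd, one_mul, br]
    rw [this]
    exact mem_centralizer_singleton_iff.2 (br_comm hDsq (hn _ hu₀.2) (hUsq _ hu₀) hd')
  have hidx : (T : Subgroup G).relIndex M * Nat.card W = Nat.card (M ⧸ D.subgroupOf M) := by
    rw [hWc, mul_comm, ← inf_relIndex_right (T : Subgroup G),
      relIndex_mul_relIndex _ _ _ hU.le inf_le_right]
    rfl
  have hA5 : Nat.card (M ⧸ D.subgroupOf M) = 60 → ∀ p, p = 3 ∨ p = 5 →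
      ∃ σ u : G, Dih σ u ∧ σ ∈ M ∧ orderOf σ = p := fun h60 p hp => by
    obtain ⟨e⟩ := hX.equiv_alt5 hTI h60
    obtain ⟨σ, u, hd, ho⟩ := exists_dih_alt5 p hp
    obtain ⟨σ', h1⟩ := hφ (e.symm σ)
    obtain ⟨u', h2⟩ := hφ (e.symm u)
    obtain ⟨h3, e', -, h4⟩ := hlift σ' u' (by
      rw [h1, h2]; exact hd.map (f := e.symm.toMonoidHom) e.symm.injective)
    exact ⟨σ', _, h4, σ'.2, by rw [h3, h1, e.symm.orderOf_eq, ho]⟩
  have hw : (Nat.card W = 2 ∧ 3 ≤ (T : Subgroup G).relIndex M) ∨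
      (Nat.card W = 4 ∧ Nat.card (M ⧸ D.subgroupOf M) = 60) := by
    refine hti.imp (fun h1 => ⟨?_, ?_⟩) fun h1 => ⟨h1.1, h1.2.1⟩
    · refine (Nat.card_eq_two_iff' (1 : W)).2 ⟨⟨_, hsW⟩, fun e => hs1 (congrArg Subtype.val e),
        fun ⟨y, hy⟩ hy1 => Subtype.ext ?_⟩
      obtain ⟨y, rfl⟩ := hφ y
      exact h1 _ hy _ hsW (fun e => hy1 (Subtype.ext e)) hs1
        (hsq y (hUsq _ ⟨(hWT y).1 hy, y.2⟩)) hs2
    · have h1 := Local.orderOf_dvd_card_of_mem hσ₀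
      rw [← Local.card_inf_mul_relIndex (T : Subgroup G) M] at h1
      have h2 := (Local.coprime_card_of_isPGroup (T.isPGroup'.to_le (inf_le_left (b := M)))
        (hd₀.od.coprime.coprime_dvd_right (by norm_num))).dvd_of_dvd_mul_left h1
      have h3 : orderOf σ₀ ≤ (T : Subgroup G).relIndex M :=
        Nat.le_of_dvd (Nat.pos_of_ne_zero index_ne_zero_of_finite) h2
      rcases hd₀.od with h4 | h4 <;> omega
  refine ⟨T, D, D ⊓ centralizer {(u₀ : G)}, Nat.card W, hD1, hU, hDsq, hw.imp And.left And.left,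
    hWc.symm, hcen, fun u hu huD => hcen u hu huD ▸ (hcard u hu huD).2, (hcard _ hu₀ hu₀D).1,
    fun u hu huD => ?_, fun u hu huD u' hu' huD' => ?_, ?_, huniq, ?_, fun h4 => ?_⟩
  · obtain ⟨_, -, e, he, hd⟩ := hdih u hu huD (hUsq u hu)
    exact ⟨e, he, hd.sq⟩
  · obtain ⟨m, -, e, he, e1, -⟩ := hconj u hu huD u' hu' huD'
    exact ⟨m, e, he, e1⟩
  · change _ ≤ (T : Subgroup G).relIndex M + 1
    rcases hw with ⟨h1, h2⟩ | ⟨h1, h2⟩ <;> rw [h1] at hidx ⊢ <;> omega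
  · rcases hw with ⟨h1, -⟩ | ⟨-, h2⟩
    · exact ⟨_, _, hd₀, hσ₀, by omega⟩
    · obtain ⟨σ, u, h1, h3, h4⟩ := hA5 h2 3 (Or.inl rfl)
      exact ⟨σ, u, h1, h3, fun _ => h4⟩
  · obtain ⟨σ, u, h1, -, h3⟩ := hA5 (hw.resolve_left (by omega)).2 5 (Or.inr rfl)
    exact ⟨σ, u, h1, h3⟩

end Cfsg.Agent.Sp5
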