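import Cfsg.Agent.Sp5.Count
import Cfsg.Agent.Char.Burnside

/-! The groups with element orders at most five, order divisible by thirty and trivial `O₂`. -/

set_option autoImplicit false

namespace Cfsg.Agent.Sp5

open Subgroup PSL2Rec MulAction
open scoped Pointwise

universe u

variable {G : Type u} [Group G] [Finite G]

theorem card_orderOf_eq_of_noMul {p : ℕ} [hp : Fact p.Prime] (h : NoMul p G) (P : Sylow p G) :
    Nat.card {x : G // orderOf x = p} = Nat.card (Sylow p G) * (Nat.card P - 1) := by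
  classical
  have h1 : ∀ x : {x : G // orderOf x = p}, ∃ Q : Sylow p G, (x : G) ∈ Q := fun x => by
    obtain ⟨Q, hQ⟩ := (Local.isPGroup_zpowers_of_orderOf_eq x.2).exists_le_sylow
    exact ⟨Q, hQ (mem_zpowers _)⟩
  choose f hf using h1
  refine card_eq_mul_of_fibers f fun Q => ?_
  have := Fintype.ofFinite (Q : Subgroup G)
  rw [P.card_eq_multiplicity, ← Q.card_eq_multiplicity,
    Nat.card_eq_fintype_card (α := (Q : Subgroup G)),
    ← Fintype.card_subtype_eq (1 : (Q : Subgroup G)),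
    ← Fintype.card_subtype_compl (· = (1 : (Q : Subgroup G))), ← Nat.card_eq_fintype_card]
  refine Nat.card_congr (Equiv.ofBijective (fun x => ⟨⟨x.1, by have := hf x.1; rwa [x.2] at this⟩, fun e =>
    Local.ne_one_of_orderOf_eq_prime hp.out x.1.2 (congrArg Subtype.val e)⟩) ⟨?_, ?_⟩)
  · intro a b e
    exact Subtype.ext (Subtype.ext (congrArg (fun x => (x.1 : G)) e))
  · rintro ⟨⟨y, hy⟩, hy1⟩
    have h2 : y ≠ 1 := fun e => hy1 (Subtype.ext e)
    have h3 := orderOf_eq_prime (h.pow_eq_one Q.isPGroup' hy) h2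
    exact ⟨⟨⟨y, h3⟩, h.sylow_eq h2 (hf ⟨y, h3⟩) hy⟩, rfl⟩

theorem Le5.card_eq_sum (h : Le5 G) : Nat.card G = 1 + Nat.card {x : G // orderOf x = 2} +
    Nat.card {x : G // orderOf x = 3} + Nat.card {x : G // orderOf x = 4} +
    Nat.card {x : G // orderOf x = 5} := by
  classical
  have := Fintype.ofFinite G
  have h1 : Nat.card {x : G // orderOf x = 1} = 1 := by simp
  rw [← h1]
  simp only [Nat.card_eq_fintype_card, Fintype.card_subtype]
  rw [← Finset.card_univ, Finset.card_eq_sum_card_fiberwise (f := orderOf) (t := {1, 2, 3, 4, 5})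
    fun x _ => by
      have := h x
      have := orderOf_pos x
      simp only [Finset.coe_insert, Finset.coe_singleton, Set.mem_insert_iff, Set.mem_singleton_iff]
      omega]
  simp [add_assoc]

theorem card_isConj (z : G) : Nat.card {x : G // IsConj z x} = (centralizer {z}).index := by
  classical
  have := Fintype.ofFinite G
  rw [← Char.card_filter_isConj, Nat.card_eq_fintype_card, Fintype.card_subtype]

omit [Finite G] in
theorem card_sqrt_conj {z i : G} (h : IsConj z i) :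
    Nat.card {y : G // y * y = i} = Nat.card {y : G // y * y = z} := by
  obtain ⟨g, rfl⟩ := isConj_iff.1 h
  exact Nat.card_congr ((MulAut.conj g).toEquiv.subtypeEquiv fun y => by simp).symm

theorem card_orderOf_four {z : G} (hz : ∀ i : G, orderOf i = 2 → IsConj z i) :
    Nat.card {x : G // orderOf x = 4} =
      Nat.card {x : G // orderOf x = 2} * Nat.card {y : G // y * y = z} := by
  refine card_eq_mul_of_fibers (fun x => ⟨x.1 * x.1, by
    rw [← pow_two, orderOf_pow' _ two_ne_zero, x.2]; rfl⟩) fun i => ?_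
  rw [← card_sqrt_conj (hz i i.2)]
  refine Nat.card_congr (Equiv.ofBijective (fun x => ⟨x.1, congrArg Subtype.val x.2⟩) ⟨?_, ?_⟩)
  · intro a b e
    exact Subtype.ext (Subtype.ext (congrArg (fun x => (x.1 : G)) e))
  · rintro ⟨y, hy⟩
    have := Fact.mk Nat.prime_two
    refine ⟨⟨⟨y, orderOf_eq_prime_pow (p := 2) (n := 1) ?_ ?_⟩, Subtype.ext hy⟩, rfl⟩
    · rw [pow_one, pow_two, hy]
      exact Local.ne_one_of_orderOf_eq_prime Nat.prime_two i.2
    · rw [show 2 ^ (1 + 1) = 2 * 2 by rfl, pow_mul, pow_two y, hy, ← orderOf_dvd_iff_pow_eq_one, i.2]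

theorem Le5.card_eq_mul (h : Le5 G) (T : Sylow 2 G) (P : Sylow 3 G) (Q : Sylow 5 G) :
    Nat.card G = Nat.card T * (Nat.card P * Nat.card Q) := by
  have := Fact.mk Nat.prime_five
  rw [T.card_eq_multiplicity, P.card_eq_multiplicity, Q.card_eq_multiplicity]
  conv_lhs => rw [← Nat.prod_factorization_pow_eq_self (Nat.card_pos (α := G)).ne',
    Finsupp.prod_of_support_subset _ (s := {2, 3, 5}) (fun r hr => by
      have := h.prime_cases (Nat.prime_of_mem_primeFactors hr) (Nat.dvd_of_mem_primeFactors hr)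
      simpa using this) _ (by simp)]
  simp

omit [Finite G] in
theorem card_sylow_mul {p : ℕ} [hp : Fact p.Prime] [Finite (Sylow p G)] (P : Sylow p G) :
    Nat.card (Sylow p G) * (P : Subgroup G).relIndex (normalizer (P : Set G)) * Nat.card P =
      Nat.card G := by
  have h3 : Nat.card P * (P : Subgroup G).relIndex (normalizer (P : Set G)) =
    Nat.card (normalizer (P : Set G)) := Local.card_mul_relIndex (H := (P : Subgroup G)) le_normalizer
  rw [P.card_eq_index_normalizer, mul_assoc, mul_comm _ (Nat.card P), mul_comm, ← card_mul_index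
      (normalizer (P : Set G)), ← h3]

theorem exists_even {p : ℕ} [hp : Fact p.Prime] (h : NoMul p G) {σ u : G} (hd : Dih σ u)
    (hσ : orderOf σ = p) : ∃ (P : Sylow p G) (k : ℕ), 2 ∣ k ∧
      Nat.card (Sylow p G) * k * Nat.card P = Nat.card G := by
  obtain ⟨P, hP⟩ := (Local.isPGroup_zpowers_of_orderOf_eq hσ).exists_le_sylow
  have h1 : σ ∈ P := hP (mem_zpowers σ)
  have h2 : u ∈ normalizer ((P : Subgroup G) : Set G) := Sylow.smul_eq_iff_mem_normalizer.1
    (h.sylow_eq hd.od.inv.ne_one (hd.inv ▸ conj_mem_smul h1 u) (inv_mem h1))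
  refine ⟨P, _, ?_, card_sylow_mul P⟩
  have h4 := Local.orderOf_dvd_card_of_mem h2
  rw [orderOf_eq_prime (p := 2) (by rw [pow_two, hd.sq]) hd.ne_one,
    ← Local.card_mul_relIndex (H := (P : Subgroup G)) le_normalizer] at h4
  refine (Local.coprime_card_of_isPGroup P.isPGroup' ?_).dvd_of_dvd_mul_left h4
  rcases hd.od with h5 | h5 <;> rw [← hσ, h5] <;> decide

theorem exists_card_eq_pow {p : ℕ} [hp : Fact p.Prime] (hd : p ∣ Nat.card G) (P : Sylow p G) :
    ∃ a, a ≠ 0 ∧ Nat.card P = p ^ a := by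
  obtain ⟨a, ha⟩ := P.isPGroup'.exists_card_eq
  refine ⟨a, ?_, ha⟩
  rintro rfl
  exact hp.out.not_dvd_one (by simpa [ha] using P.dvd_card_of_dvd_card hd)

theorem Le5.equiv_alt6 (h : Le5 G) (hT : ¬ SylowTI 2 G)
    (hO : ∀ N : Subgroup G, N.Normal → IsPGroup 2 N → N = ⊥) (h5 : 5 ∣ Nat.card G) :
    Nonempty (G ≃* alternatingGroup (Fin 6)) := by
  have := Fact.mk Nat.prime_five
  obtain ⟨T, z, w, hw, hTc, hz, hC, hcl, hs, ⟨σ, u, hd, hσ⟩, hd5⟩ := h.small hT hO
  obtain ⟨P, k₃, hk₃, e₃⟩ := exists_even (h.noMul (Or.inl rfl)) hd hσ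
  obtain ⟨Q, k₅, hk₅, e₅⟩ : ∃ (Q : Sylow 5 G) (k : ℕ), (w = 4 → 2 ∣ k) ∧
      Nat.card (Sylow 5 G) * k * Nat.card Q = Nat.card G := by
    by_cases h4 : w = 4
    · obtain ⟨σ, u, hd, hσ⟩ := hd5 h4
      obtain ⟨Q, k, h1, h2⟩ := exists_even (h.noMul (Or.inr rfl)) hd hσ
      exact ⟨Q, k, fun _ => h1, h2⟩
    · exact ⟨default, _, fun e => absurd e h4, card_sylow_mul _⟩
  obtain ⟨a, ha, hP⟩ := exists_card_eq_pow (hσ ▸ orderOf_dvd_natCard σ) P
  obtain ⟨b, hb, hQ⟩ := exists_card_eq_pow h5 Q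
  have hG := h.card_eq_mul T P Q
  have h2 : Nat.card {x : G // orderOf x = 2} = Nat.card P * Nat.card Q := by
    have h1 := (T : Subgroup G).card_mul_index
    rw [hG, ← hC, ← card_isConj, hC] at h1
    rw [← Nat.eq_of_mul_eq_mul_left Nat.card_pos h1]
    refine Nat.card_congr (Equiv.subtypeEquivRight fun x => ⟨hcl x, fun e => ?_⟩)
    obtain ⟨g, rfl⟩ := isConj_iff.1 e
    rw [Char.orderOf_conj', hz]
  have hsum := h.card_eq_sum
  rw [card_orderOf_four hcl, hs, h2, card_orderOf_eq_of_noMul (h.noMul (Or.inl rfl)) P,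
    card_orderOf_eq_of_noMul (h.noMul (Or.inr rfl)) Q, hG, hTc] at hsum
  rw [hG, hTc, mul_comm (Nat.card P), ← mul_assoc] at e₃
  rw [hG, hTc, ← mul_assoc] at e₅
  replace e₃ := Nat.eq_of_mul_eq_mul_right Nat.card_pos e₃
  replace e₅ := Nat.eq_of_mul_eq_mul_right Nat.card_pos e₅
  rcases hw with rfl | rfl
  · obtain ⟨h9, hq, hn⟩ := num_A ha hb hP hQ e₃ e₅ hk₃ hsum
    refine Char.alt6_of_360 P h9 (fun s hs hs1 => ?_) (by rw [hG, hTc, h9, hq]) fun hn' => ?_
    · refine P.is_maximal' (fun x => ⟨1, Subtype.ext ?_⟩) fun x hx =>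
        mem_centralizer_singleton_iff.2 ?_
      · have hN := h.noMul (p := 3) (Or.inl rfl)
        exact hN.pow_eq_one_of_commute hs1 (hN.pow_eq_one P.isPGroup' hs)
          (mem_centralizer_singleton_iff.1 x.2).symm
      · exact congrArg Subtype.val ((IsPGroup.isMulCommutative_of_card_eq_prime_sq (p := 3)
          (G := P) h9).is_comm.comm ⟨x, hx⟩ ⟨s, hs⟩)
    · rw [P.card_eq_index_normalizer, ← P.coe_coe, normalizer_eq_top_iff.2 hn', index_top] at hn
      omega
  · exact (num_B ha hb hP hQ e₃ e₅ hk₃ (hk₅ rfl) hsum).elim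

theorem Le5.classify (h : Le5 G) (hO : ∀ N : Subgroup G, N.Normal → IsPGroup 2 N → N = ⊥)
    (h2 : 2 ∣ Nat.card G) (h3 : 3 ∣ Nat.card G) (h5 : 5 ∣ Nat.card G) :
    Nonempty (G ≃* alternatingGroup (Fin 5)) ∨ Nonempty (G ≃* alternatingGroup (Fin 6)) := by
  have := Fact.mk Nat.prime_five
  by_cases hT : SylowTI 2 G
  swap
  · exact Or.inr (h.equiv_alt6 hT hO h5)
  obtain ⟨T⟩ : Nonempty (Sylow 2 G) := inferInstance
  obtain ⟨z, hz, hz1, hz2⟩ := exists_inv h2 T
  obtain ⟨g, hg⟩ : ∃ g : G, T ≠ g • T := by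
    by_contra! e
    have := hO T (Local.normal_of_forall_mem_normalizer fun g =>
      Sylow.smul_eq_iff_mem_normalizer.1 (e g).symm) T.isPGroup'
    exact hz1 (mem_bot.1 (this ▸ hz))
  refine Or.inl (h.equiv_alt5 hT ((h.ti hT h2 hg).resolve_left fun hu => ?_).2.1)
  obtain ⟨K, hK, hK', -⟩ := Char.frobenius_of_ti (H := (T : Subgroup G)) fun y hy hy1 x hx => by
    have h1 : x⁻¹ • T = T := hT _ _ (x⁻¹ * y * x) (fun e => hy1 (by
      calc _ = x * (x⁻¹ * y * x) * x⁻¹ := by group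
        _ = 1 := by rw [e, mul_one, mul_inv_cancel])) (by simpa using conj_mem_smul hy x⁻¹) hx
    have h4 := hu _ (h1 ▸ conj_mem_smul hz x⁻¹) z hz (mt conj_eq_one_iff.1 hz1) hz1
      (by rw [conj_mul, hz2, mul_one, mul_inv_cancel]) hz2
    exact (inv_mem_iff (H := T)).1 (h.mem_of_commute hT hz hz1 (mul_inv_eq_iff_eq_mul.1 h4))
  have hod : ∀ x : G, IsOd x → x ∈ K := fun x hx => by
    rw [← SetLike.mem_coe, hK', Char.mem_frobeniusKernel_iff]
    exact Or.inr fun g hg => (hx.conj g⁻¹).not_pow_four (h.pow_four T.isPGroup' (by simpa using hg))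
  obtain ⟨a, ha⟩ := exists_prime_orderOf_dvd_card' 3 h3
  obtain ⟨b, hb⟩ := exists_prime_orderOf_dvd_card' 5 h5
  have hc := Char.comm_of_inverts (Char.inverts_of_fpf hz2 (fun k hk => hK.conj_mem k hk z)
    fun k hk hc => Char.frob_kernel_inf hK' hk 1 (by
      rw [inv_one, one_mul, mul_one]; exact h.mem_of_commute hT hz hz1 hc.symm))
    a (hod a (Or.inl ha)) b (hod b (Or.inr hb))
  have h4 := Commute.orderOf_mul_eq_mul_orderOf_of_coprime hc (by rw [ha, hb]; decide)
  have := h (a * b)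
  rw [ha, hb] at h4
  omega

end Cfsg.Agent.Sp5
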