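import Cfsg.Agent.Sp5.Elem
import Cfsg.Agent.Spec.Alt
import Cfsg.Agent.Local.LinSpecial

/-! Groups with element orders at most five and trivially intersecting Sylow `2`-subgroups. -/

set_option autoImplicit false

namespace Cfsg.Agent.Sp5

open Subgroup PSL2Rec MulAction

universe u

variable {G : Type u} [Group G]

theorem conj_mem_smul {p : ℕ} {P : Sylow p G} {x : G} (hx : x ∈ P) (g : G) :
    g * x * g⁻¹ ∈ g • P := Local.conj_mem_conj_smul (H := (P : Subgroup G)) g hx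

theorem mem_of_smul_eq {p : ℕ} {P : Sylow p G} {x : G}
    (hx : IsPGroup p (zpowers x)) (h : x • P = P) : x ∈ P := by
  have : x ∈ zpowers x ⊓ normalizer P := ⟨mem_zpowers x, Sylow.smul_eq_iff_mem_normalizer.1 h⟩
  rw [hx.inf_normalizer_sylow] at this
  exact this.2

theorem isPGroup_zpowers {x : G} (hx : x ^ 4 = 1) : IsPGroup 2 (zpowers x) :=
  isPGroup_of_pow_four (by
    rintro _ ⟨k, rfl⟩
    rw [← zpow_natCast, ← zpow_mul, mul_comm, zpow_mul, zpow_natCast, hx, one_zpow])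

theorem pow_res (a k m n : ℕ) (h : a ^ k % m = 1) : a ^ n % m = a ^ (n % k) % m := by
  conv_lhs => rw [← Nat.div_add_mod n k, pow_add, pow_mul, Nat.mul_mod, Nat.pow_mod, h, one_pow,
    ← Nat.mul_mod, one_mul]

variable [Finite G]

theorem Le5.prime_cases (h : Le5 G) {r : ℕ} (hr : r.Prime) (hd : r ∣ Nat.card G) :
    r = 2 ∨ r = 3 ∨ r = 5 := by
  have := Fact.mk hr
  obtain ⟨x, hx⟩ := exists_prime_orderOf_dvd_card' r hd
  have h1 := h x
  have h2 := hr.two_le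
  rw [hx] at h1
  interval_cases r
  · simp
  · simp
  · norm_num at hr
  · simp

theorem exists_inv (h2 : 2 ∣ Nat.card G) (P : Sylow 2 G) : ∃ s ∈ P, s ≠ 1 ∧ s * s = 1 := by
  obtain ⟨s, hs, ho⟩ := Local.exists_mem_orderOf_eq_of_dvd_card Nat.prime_two
    (P.dvd_card_of_dvd_card h2)
  exact ⟨s, hs, Local.ne_one_of_orderOf_eq_prime Nat.prime_two ho, by
    rw [← pow_two, ← ho, pow_orderOf_eq_one]⟩

section TI

variable (h : Le5 G) (hT : SylowTI 2 G)

include h hT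

theorem Le5.mem_of_commute {P : Sylow 2 G} {s g : G} (hs : s ∈ P) (hs1 : s ≠ 1)
    (hc : g * s = s * g) : g ∈ P := by
  obtain ⟨R, hR⟩ := (h.isPGroup_centralizer hs1 (h.pow_four P.isPGroup' hs)).exists_le_sylow
  rw [hT P R s hs1 hs (hR (mem_centralizer_singleton_iff.2 rfl))]
  exact hR (mem_centralizer_singleton_iff.2 hc)

theorem Le5.isOd_mul {P Q : Sylow 2 G} (hPQ : P ≠ Q) {s t : G} (hs : s ∈ P) (ht : t ∈ Q)
    (hs1 : s ≠ 1) (ht1 : t ≠ 1) (hs2 : s * s = 1) (ht2 : t * t = 1) : IsOd (s * t) := by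
  refine (h.cases _).resolve_left fun e => hPQ ?_
  obtain ⟨R, h1, h2⟩ := h.exists_sylow_of_pow_four hs1 hs2 ht2 e
  exact (hT P R s hs1 hs h1).trans (hT Q R t ht1 ht h2).symm

theorem Le5.exists_swap {P Q : Sylow 2 G} (hPQ : P ≠ Q) {s t : G} (hs : s ∈ P) (ht : t ∈ Q)
    (hs1 : s ≠ 1) (ht1 : t ≠ 1) (hs2 : s * s = 1) (ht2 : t * t = 1) :
    ∃ v : G, v * v = 1 ∧ v * s * v⁻¹ = t ∧ v • P = Q ∧ v • Q = P := by
  obtain ⟨v, hv, e⟩ := exists_conj_of_isOd hs2 ht2 (h.isOd_mul hT hPQ hs ht hs1 ht1 hs2 ht2)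
  have : v • P = Q := hT _ _ t ht1 (e ▸ conj_mem_smul hs v) ht
  exact ⟨v, hv, e, this, by rw [← this, ← mul_smul, hv, one_smul]⟩

theorem Le5.exists_fix_conj {P Q : Sylow 2 G} (hPQ : P ≠ Q) {v : G} (hv : v * v = 1)
    (h1 : v • P = Q) (h2 : v • Q = P) {s t : G} (hs : s ∈ P) (ht : t ∈ P)
    (hs1 : s ≠ 1) (ht1 : t ≠ 1) (hs2 : s * s = 1) (ht2 : t * t = 1) :
    ∃ k : G, k • P = P ∧ k • Q = Q ∧ k * s * k⁻¹ = t ∧ v * k * v⁻¹ = k⁻¹ := by
  obtain ⟨w, hw, e, h3, h4⟩ := h.exists_swap hT hPQ ht (h1 ▸ conj_mem_smul hs v) ht1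
    (by simpa using hs1) ht2 (by simp [hs2])
  refine ⟨w * v, by rw [mul_smul, h1, h4], by rw [mul_smul, h2, h3], ?_, ?_⟩
  · calc _ = w * (v * s * v⁻¹) * w⁻¹ := by group
      _ = (w * w) * t * (w * w)⁻¹ := by rw [← e]; group
      _ = t := by rw [hw]; group
  · rw [mul_inv_rev, inv_eq_of_mul_self hw, ← mul_assoc, mul_inv_cancel_right,
      inv_eq_of_mul_self hv]

theorem Le5.exists_decomp_fix (h2 : 2 ∣ Nat.card G) {P Q : Sylow 2 G} (hPQ : P ≠ Q) {v : G}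
    (hv : v * v = 1) (h1 : v • P = Q) (h1' : v • Q = P) {n : G} (hn : n • P = P) :
    ∃ k : G, k • P = P ∧ k • Q = Q ∧ v * k * v⁻¹ = k⁻¹ ∧ k⁻¹ * n ∈ P := by
  obtain ⟨s, hs, hs1, hs2⟩ := exists_inv h2 P
  obtain ⟨k, h3, h4, e, h5⟩ := h.exists_fix_conj hT hPQ hv h1 h1' hs (hn ▸ conj_mem_smul hs n) hs1
    (by simpa using hs1) hs2 (by simp [hs2])
  refine ⟨k, h3, h4, h5, h.mem_of_commute hT hs hs1 ?_⟩
  calc _ = k⁻¹ * (n * s * n⁻¹) * n := by group
    _ = _ := by rw [← e]; group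

theorem Le5.exists_swap' (h2 : 2 ∣ Nat.card G) {P Q : Sylow 2 G} (hPQ : P ≠ Q) :
    ∃ v : G, v * v = 1 ∧ v • P = Q ∧ v • Q = P ∧
      ∀ k : G, k • P = P → k • Q = Q → v * k * v⁻¹ = k⁻¹ := by
  obtain ⟨s, hs, hs1, hs2⟩ := exists_inv h2 P
  obtain ⟨t, ht, ht1, ht2⟩ := exists_inv h2 Q
  obtain ⟨v, hv, -, h3, h4⟩ := h.exists_swap hT hPQ hs ht hs1 ht1 hs2 ht2
  refine ⟨v, hv, h3, h4, fun n hn hn' => ?_⟩
  obtain ⟨k, -, h5, h6, h7⟩ := h.exists_decomp_fix hT h2 hPQ hv h3 h4 hn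
  have := hT.eq_one_of_smul_eq hPQ.symm h7 (by rw [mul_smul, hn', inv_smul_eq_iff, h5])
  rwa [← inv_mul_eq_one.1 this]

omit h in
theorem eq_one_of_fix {P Q : Sylow 2 G} (hPQ : P ≠ Q) {k : G} (h1 : k • P = P) (h2 : k • Q = Q)
    (hk : k ^ 4 = 1) : k = 1 :=
  hT.eq_one_of_smul_eq hPQ.symm (mem_of_smul_eq (isPGroup_zpowers hk) h1) h2

theorem Le5.comm_of_fix (h2 : 2 ∣ Nat.card G) {P Q : Sylow 2 G} (hPQ : P ≠ Q) {k k' : G}
    (h3 : k • P = P) (h4 : k • Q = Q) (h5 : k' • P = P) (h6 : k' • Q = Q) : k * k' = k' * k := by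
  obtain ⟨v, -, -, -, hv⟩ := h.exists_swap' hT h2 hPQ
  exact Char.comm_of_inverts (H := stabilizer G P ⊓ stabilizer G Q)
    (fun k hk => hv k hk.1 hk.2) _ ⟨h3, h4⟩ _ ⟨h5, h6⟩

theorem Le5.three (h2 : 2 ∣ Nat.card G) {P Q R : Sylow 2 G} (hPQ : P ≠ Q) (hQR : Q ≠ R)
    (hRP : R ≠ P) {k : G} (hP : k • P = P) (hQ : k • Q = Q) (hR : k • R = R) : k = 1 := by
  obtain ⟨v, hv, a1, a2, a3⟩ := h.exists_swap' hT h2 hPQ
  obtain ⟨v', -, b1, -, b3⟩ := h.exists_swap' hT h2 hQR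
  obtain ⟨v'', -, c1, -, c3⟩ := h.exists_swap' hT h2 hRP
  obtain ⟨k', d1, d2, -, d3⟩ := h.exists_decomp_fix hT h2 hPQ hv a1 a2 (n := v'' * v' * v)
    (by rw [mul_smul, mul_smul, a1, b1, c1])
  have e1 : v'' * v' * v * k * (v'' * v' * v)⁻¹ = k⁻¹ := by
    calc _ = v'' * (v' * (v * k * v⁻¹) * v'⁻¹) * v''⁻¹ := by group
      _ = v'' * (v' * k * v'⁻¹)⁻¹ * v''⁻¹ := by rw [a3 k hP hQ]; group
      _ = _ := by rw [b3 k hQ hR, inv_inv, c3 k hR hP]
  have e2 := h.comm_of_fix hT h2 hPQ hP hQ d1 d2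
  generalize v'' * v' * v = c at d3 e1
  have e3 : k⁻¹ * k⁻¹ = k'⁻¹ * c * (k * (k'⁻¹ * c)⁻¹ * k⁻¹) := by
    calc _ = k'⁻¹ * k⁻¹ * (k * k') * k⁻¹ * k⁻¹ := by group
      _ = k'⁻¹ * (c * k * c⁻¹) * k' * k⁻¹ := by rw [e1, e2]; group
      _ = _ := by group
  have e4 : k⁻¹ * k⁻¹ = 1 := hT.eq_one_of_smul_eq hPQ.symm
    (e3 ▸ mul_mem d3 (hP ▸ conj_mem_smul (inv_mem (hP ▸ d3)) k))
    (by rw [mul_smul, inv_smul_eq_iff.2 hQ.symm, inv_smul_eq_iff.2 hQ.symm])
  rw [← mul_inv_rev, inv_eq_one] at e4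
  exact eq_one_of_fix hT hPQ hP hQ (pow_four_of_mul_self e4)

theorem Le5.ti (h2 : 2 ∣ Nat.card G) {P Q : Sylow 2 G} (hPQ : P ≠ Q) :
    (∀ s ∈ P, ∀ t ∈ P, s ≠ 1 → t ≠ 1 → s * s = 1 → t * t = 1 → s = t) ∨
    (Nat.card P = 4 ∧ Nat.card G = 60 ∧
      ∀ k : G, k • P = P → k • Q = Q → k = 1 ∨ orderOf k = 3) := by
  refine or_iff_not_imp_left.2 fun hne => ?_
  push Not at hne
  obtain ⟨s, hs, t, ht, hs1, ht1, hs2, ht2, hst⟩ := hne
  obtain ⟨v, hv, a1, a2, -⟩ := h.exists_swap' hT h2 hPQ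
  obtain ⟨k, k1, k2, k3, -⟩ := h.exists_fix_conj hT hPQ hv a1 a2 hs ht hs1 ht1 hs2 ht2
  have hk1 : k ≠ 1 := by rintro rfl; exact hst (by simpa using k3)
  have hod : ∀ k : G, k • P = P → k • Q = Q → k = 1 ∨ IsOd k := fun k h1 h2 =>
    (h.cases k).imp_left (eq_one_of_fix hT hPQ h1 h2)
  have hk := (hod k k1 k2).resolve_left hk1
  have hnorm : ∀ g : G, g • P = P → ∀ x ∈ (P : Subgroup G), g * x * g⁻¹ ∈ (P : Subgroup G) :=
    fun g hg x hx => Local.conj_mem_of_mem_normalizer (Sylow.smul_eq_iff_mem_normalizer.1 hg) hx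
  have hZ : ZData G P Q (P : Subgroup G) v := by
    refine ⟨hPQ, fun x hx => smul_self_of_mem hx, hnorm, fun R hR => ?_,
      fun x hx => hT.eq_one_of_smul_eq hPQ.symm hx,
      fun g R h1 h3 h4 h5 h6 => h.three hT h2 hPQ h3.symm h1 h4 h5 h6, a1, a2⟩
    obtain ⟨v', hv', b1, b2, -⟩ := h.exists_swap' hT h2 hR.symm
    obtain ⟨k', c1, c2, -, c3⟩ := h.exists_decomp_fix hT h2 hR.symm hv' b1 b2 k1
    obtain ⟨y, hy, e⟩ := Local.exists_commutator_eq_of_fpf (hnorm k k1)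
      (fun x hx hc => h.eq_one_of_commute hk (h.pow_four P.isPGroup' hx) hc)
      (hnorm k k1 _ (inv_mem c3))
    have e1 : y * k * y⁻¹ = k' := by
      rw [← mul_left_inj k⁻¹]
      calc _ = y * (k * y⁻¹ * k⁻¹) := by group
        _ = _ := by rw [e]; group
    refine ⟨y, hy, by_contra fun hne => (hk.conj y).ne_one ?_⟩
    refine h.three hT h2 hR.symm (Ne.symm hne) (fun e2 => hPQ ?_) (e1 ▸ c1) (e1 ▸ c2)
      (by rw [mul_smul, mul_smul, inv_smul_smul, k2])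
    exact (smul_left_cancel y (e2.trans (smul_self_of_mem hy).symm)).symm
  have hG := hZ.card_eq
  have hK : Nat.card ↥(stabilizer G P ⊓ stabilizer G Q) ∣ Nat.card P - 1 := by
    letI := Local.conjAction (K := (P : Subgroup G)) (L := stabilizer G P ⊓ stabilizer G Q)
      fun g hg => Sylow.smul_eq_iff_mem_normalizer.1 hg.1
    exact Local.card_dvd_card_sub_one_of_free fun g hg w e => Subtype.ext
      ((hZ.semi g g.2 w w.2 (congrArg Subtype.val e)).resolve_left fun e => hg (Subtype.ext e))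
  have hr : orderOf k ∣ Nat.card P - 1 :=
    (Local.orderOf_dvd_card_of_mem (H := stabilizer G P ⊓ stabilizer G Q) ⟨k1, k2⟩).trans hK
  obtain ⟨a, ha⟩ := P.isPGroup'.exists_card_eq
  have ha2 : 2 ≤ a := by
    have : 2 < Nat.card P := by
      have := Fintype.ofFinite P
      rw [Nat.card_eq_fintype_card, Fintype.two_lt_card_iff]
      exact ⟨1, ⟨s, hs⟩, ⟨t, ht⟩, fun e => hs1 (congrArg Subtype.val e).symm,
        fun e => ht1 (congrArg Subtype.val e).symm, fun e => hst (congrArg Subtype.val e)⟩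
    rw [ha] at this
    by_contra hlt
    interval_cases a <;> omega
  obtain ⟨c, rfl⟩ : ∃ c, a = c + 2 := ⟨a - 2, by omega⟩
  have hp : ∀ r : ℕ, r.Prime → r ∣ Nat.card P + 1 → r = 3 ∨ r = 5 := fun r hr hd =>
    (h.prime_cases hr (hd.trans (hG ▸ dvd_mul_left _ _))).resolve_left (by
      rintro rfl; rw [ha, pow_add] at hd; omega)
  have hP : Nat.card P = 4 := by
    have hpos : 0 < 2 ^ c := by positivity
    rw [pow_add] at ha
    rcases hk with hk | hk <;> rw [hk] at hr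
    · have h5 := Nat.eq_prime_pow_of_unique_prime_dvd (n := Nat.card P + 1) (p := 5) (by omega)
        fun {r} hr' hd => (hp r hr' hd).resolve_left (by rintro rfl; omega)
      generalize (Nat.card P + 1).primeFactorsList.length = b at h5
      rcases c with _ | c
      · exact ha
      have e1 := pow_res 5 2 3 b rfl
      have e2 := pow_res 5 2 8 b rfl
      rw [pow_succ] at ha hpos
      generalize 5 ^ b = x at *
      generalize 2 ^ c = y at *
      rcases Nat.mod_two_eq_zero_or_one b with e | e <;> rw [e] at e1 e2 <;> omega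
    · have h3 : 3 ∣ Nat.card P + 1 := by
        by_contra h3
        have h5 : 5 ∣ Nat.card P + 1 := by
          obtain ⟨r, hr', hd⟩ := Nat.exists_prime_and_dvd (n := Nat.card P + 1)
            (by have : 0 < Nat.card P := Nat.card_pos; omega)
          rcases hp r hr' hd with rfl | rfl
          · exact absurd hd h3
          · exact hd
        omega
      have e1 := pow_res 2 4 15 c rfl
      have e2 := Nat.mod_lt c (show 0 < 4 by norm_num)
      generalize 2 ^ c = y at *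
      generalize c % 4 = e at *
      interval_cases e <;> omega
  rw [hP] at hK hr hG
  have hK3 : Nat.card ↥(stabilizer G P ⊓ stabilizer G Q) = 3 := by
    refine ((Nat.dvd_prime Nat.prime_three).1 hK).resolve_left fun e => hk1 ?_
    rw [card_eq_one] at e
    exact mem_bot.1 (e ▸ (⟨k1, k2⟩ : k ∈ stabilizer G P ⊓ stabilizer G Q))
  refine ⟨hP, by rw [hG, hK3], fun g g1 g2 => ?_⟩
  have := Local.orderOf_dvd_card_of_mem (H := stabilizer G P ⊓ stabilizer G Q) ⟨g1, g2⟩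
  rwa [hK3, Nat.dvd_prime Nat.prime_three, orderOf_eq_one_iff] at this

theorem Le5.equiv_psl (hG : Nat.card G = 60) :
    Nonempty (G ≃* Matrix.ProjectiveSpecialLinearGroup (Fin 2) (GaloisField 2 2)) := by
  have := Fintype.ofFinite (GaloisField 2 2)
  have h4 : Fintype.card (GaloisField 2 2) = 4 := by
    rw [← Nat.card_eq_fintype_card, GaloisField.card 2 2 (by norm_num)]; rfl
  refine recog_psl2 (by omega) 2 ?_ hT (fun r hr h2 x e => ?_) (fun _ r hr _ h2 x e => ?_)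
  · have := card_psl2 (F := GaloisField 2 2)
    rw [h4] at this
    norm_num at this
    omega
  all_goals
    have := h x
    have := hr.two_le
    omega

end TI

theorem Le5.equiv_alt5 (h : Le5 G) (hT : SylowTI 2 G) (hG : Nat.card G = 60) :
    Nonempty (G ≃* alternatingGroup (Fin 5)) := by
  have hs : ∀ x : alternatingGroup (Fin 5), orderOf x = 1 ∨ orderOf x = 2 ∨ orderOf x = 3 ∨
      orderOf x = 5 := fun x => by
    have : orderOf x ∈ ({1, 2, 3, 5} : Set ℕ) := Spec.spec_alt5 ▸ ⟨x, rfl⟩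
    exact this
  obtain ⟨e⟩ := h.equiv_psl hT hG
  obtain ⟨e'⟩ := Le5.equiv_psl (G := alternatingGroup (Fin 5))
    (fun x => by rcases hs x with h | h | h | h <;> omega)
    (NoMul.sylowTI fun r hr x e => by
      have := hr.two_le
      have := hs x
      omega)
    (by rw [nat_card_alternatingGroup]; simp [Nat.factorial])
  exact ⟨e.trans e'.symm⟩

end Cfsg.Agent.Sp5
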